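import Groth.Agent.BoxRes17.IterMapTri

/-!
# Uniform bounds along a family of weakly exact functors
-/

set_option autoImplicit false
set_option backward.isDefEq.respectTransparency false
set_option backward.defeqAttrib.useBackward true
set_option linter.style.haveILetI false

universe v v' u u' w

open CategoryTheory CategoryTheory.Limits ZeroObject CategoryTheory.Pretriangulated Groth.Agent.Dual22Lib.WeakExact

namespace Groth.Agent.BoxRes17

variable {C : Type u} [Category.{v} C] [Preadditive C] [HasZeroObject C] [HasShift C ℤ]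
  [∀ n : ℤ, (shiftFunctor C n).Additive] [Pretriangulated C]
  {D : Type u'} [Category.{v'} D] [Preadditive D] [HasZeroObject D] [HasShift D ℤ]
  [∀ n : ℤ, (shiftFunctor D n).Additive] [Pretriangulated D]

/-- A bound by a growing sequence of properties, uniformly in a family of functors, spreads along an envelope. -/
theorem family_bound {ι : Type w} (Fs : ι → C ⥤ D) (hF : ∀ i, TriExact (Fs i)) (Z : ℕ → ObjectProperty D)
    [∀ m, (Z m).IsClosedUnderIsomorphisms] [∀ m, (Z m).IsStableUnderRetracts]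
    (hmono : ∀ m m', m ≤ m' → Z m ≤ Z m')
    (hshift : ∀ m K (a : ℤ), Z m K → Z (m + a.natAbs) (K⟦a⟧))
    (hext : ∀ m (T : Triangle D), T ∈ distTriang D → Z m T.obj₁ → Z m T.obj₃ → Z m T.obj₂)
    (P : ObjectProperty C) (hP : ∀ A, P A → ∃ m, ∀ i, Z m ((Fs i).obj A)) :
    ∀ (n : ℕ) {A : C}, P.triangEnvelopeIter n A → ∃ m, ∀ i, Z m ((Fs i).obj A) := by
  have h0 : ∀ {A : C}, iter0 P A → ∃ m, ∀ i, Z m ((Fs i).obj A) := by
    rintro A ⟨A', hA', ⟨r⟩⟩
    suffices h : ∃ m, ∀ i, Z m ((Fs i).obj A') by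
      obtain ⟨m, hm⟩ := h
      exact ⟨m, fun i => ObjectProperty.prop_of_retract _ (r.map (Fs i)) (hm i)⟩
    clear r
    induction hA' with
    | of_isoClosure e _ ih =>
      obtain ⟨m, hm⟩ := ih
      exact ⟨m, fun i => (Z m).prop_of_iso ((Fs i).mapIso e) (hm i)⟩
    | of_mem X hX =>
      obtain ⟨Y, a, e, hY⟩ := hX
      obtain ⟨m, hm⟩ := hP Y hY
      refine ⟨m + a.natAbs, fun i => ?_⟩
      obtain ⟨e'⟩ := nonempty_shift (hF i) Y a
      exact (Z _).prop_of_iso ((Fs i).mapIso e ≪≫ e').symm (hshift m _ a (hm i))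
    | of_limitPresentation pres h ih =>
      have e : _ ≅ pres.diag.obj ⟨.left⟩ ⊞ pres.diag.obj ⟨.right⟩ :=
        (IsLimit.conePointUniqueUpToIso pres.isLimit (limit.isLimit pres.diag)) ≪≫
          (HasLimit.isoOfNatIso (Discrete.natIso fun j => by
            rcases j with ⟨_ | _⟩ <;> exact Iso.refl _)) ≪≫ (biprod.isoProd _ _).symm
      obtain ⟨m₁, h₁⟩ := ih ⟨.left⟩
      obtain ⟨m₂, h₂⟩ := ih ⟨.right⟩
      refine ⟨max m₁ m₂, fun i => ?_⟩
      obtain ⟨e'⟩ := nonempty_biprod (hF i) (pres.diag.obj ⟨.left⟩) (pres.diag.obj ⟨.right⟩)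
      exact (Z _).prop_of_iso ((Fs i).mapIso e ≪≫ e').symm (hext _ _ (binaryBiproductTriangle_distinguished _ _)
        (hmono _ _ (le_max_left _ _) _ (h₁ i)) (hmono _ _ (le_max_right _ _) _ (h₂ i)))
  intro n
  induction n with
  | zero => intro A hA; rw [ObjectProperty.triangEnvelopeIter_zero] at hA; exact h0 hA
  | succ n ih =>
    intro A hA
    rw [ObjectProperty.triangEnvelopeIter_succ] at hA
    obtain ⟨A', ⟨Y, W, f, g, h, hT, hY, hW⟩, ⟨r⟩⟩ := hA
    obtain ⟨m₁, h₁⟩ := h0 hY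
    obtain ⟨m₂, h₂⟩ := ih hW
    refine ⟨max m₁ m₂, fun i => ObjectProperty.prop_of_retract _ (r.map (Fs i)) ?_⟩
    obtain ⟨δ, hδ⟩ := hF i _ hT
    exact hext _ _ hδ (hmono _ _ (le_max_left _ _) _ (h₁ i)) (hmono _ _ (le_max_right _ _) _ (h₂ i))

end Groth.Agent.BoxRes17
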