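import Groth.Agent.BoxRes17.Generator
import Groth.Agent.BoxRes17.FamilyBound
import Groth.Agent.DQCoh.Bound
import Groth.Agent.Dual22Lib.RepLib
import Groth.Agent.DCat.RHomDual
import Groth.Agent.Coherent.ProperFinite

/-!
# Homological functors on perfect objects are bounded on coherent modules
-/

set_option autoImplicit false
set_option backward.isDefEq.respectTransparency false
set_option backward.defeqAttrib.useBackward true
set_option linter.style.haveILetI false
set_option maxHeartbeats 1600000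

universe u v' u'

open CategoryTheory CategoryTheory.Limits CategoryTheory.Pretriangulated DerivedCategory AlgebraicGeometry HomologicalComplex
open Groth.Agent.DCat Groth.Agent.Dual22Lib

noncomputable section

namespace Groth.Agent.BoxRes17

attribute [local instance] HasDerivedCategory.standard

section Vanishing

variable {C : Type u} [Category.{v'} C] [HasZeroObject C] [HasShift C ℤ] [Preadditive C]
  [∀ (n : ℤ), (shiftFunctor C n).Additive] [Pretriangulated C] (P : ObjectProperty C) [P.IsTriangulated]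
  [P.IsClosedUnderIsomorphisms] [P.IsStableUnderRetracts]
  {A : Type u'} [Category A] [Abelian A] (H : P.FullSubcategory ⥤ A) [H.IsHomological]

/-- Objects of `P` where `H` vanishes outside `[-m, m]`. -/
def vanOutside (m : ℕ) : ObjectProperty C := fun K =>
  ∃ h : P K, ∀ i : ℤ, m < i.natAbs → IsZero (H.obj ((shiftFunctor P.FullSubcategory i).obj ⟨K, h⟩))

instance (m : ℕ) : (vanOutside P H m).IsClosedUnderIsomorphisms where
  of_iso {K L} e := by
    rintro ⟨h, hv⟩
    refine ⟨P.prop_of_iso e h, fun i hi => (hv i hi).of_iso ?_⟩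
    exact H.mapIso ((shiftFunctor P.FullSubcategory i).mapIso (P.ι.preimageIso (X := ⟨_, _⟩) (Y := ⟨K, h⟩) e.symm))

instance (m : ℕ) : (vanOutside P H m).IsStableUnderRetracts where
  of_retract {K L} r := by
    rintro ⟨h, hv⟩
    refine ⟨P.prop_of_retract r h, fun i hi => ?_⟩
    let r' : Retract (⟨K, P.prop_of_retract r h⟩ : P.FullSubcategory) ⟨L, h⟩ :=
      { i := ObjectProperty.homMk r.i, r := ObjectProperty.homMk r.r
        retract := ObjectProperty.hom_ext _ r.retract }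
    let r'' := (r'.map (shiftFunctor P.FullSubcategory i)).map H
    rw [IsZero.iff_id_eq_zero, ← r''.retract, (hv i hi).eq_of_tgt r''.i 0, zero_comp]

theorem vanOutside_mono (m m' : ℕ) (h : m ≤ m') : vanOutside P H m ≤ vanOutside P H m' :=
  fun _ ⟨hP, hv⟩ => ⟨hP, fun i hi => hv i (by omega)⟩

theorem vanOutside_shift (m : ℕ) (K : C) (a : ℤ) (hK : vanOutside P H m K) :
    vanOutside P H (m + a.natAbs) (K⟦a⟧) := by
  obtain ⟨h, hv⟩ := hK
  refine ⟨P.le_shift a _ h, fun i hi => (hv (a + i) (by omega)).of_iso ?_⟩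
  exact H.mapIso ((shiftFunctor P.FullSubcategory i).mapIso
    (P.ι.preimageIso (X := ⟨K⟦a⟧, _⟩) (Y := (shiftFunctor P.FullSubcategory a).obj ⟨K, h⟩)
      ((P.ι.commShiftIso a).app ⟨K, h⟩).symm) ≪≫ ((shiftFunctorAdd P.FullSubcategory a i).app _).symm)

theorem vanOutside_ext (m : ℕ) (T : Triangle C) (hT : T ∈ distTriang C) (h₁ : vanOutside P H m T.obj₁)
    (h₃ : vanOutside P H m T.obj₃) : vanOutside P H m T.obj₂ := by
  obtain ⟨p₁, v₁⟩ := h₁
  obtain ⟨p₃, v₃⟩ := h₃
  have p₂ : P T.obj₂ := P.ext_of_isTriangulatedClosed₂ T hT p₁ p₃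
  let T' : Triangle P.FullSubcategory := Triangle.mk (ObjectProperty.homMk T.mor₁ : (⟨_, p₁⟩ : P.FullSubcategory) ⟶ ⟨_, p₂⟩)
    (ObjectProperty.homMk T.mor₂ : (⟨_, p₂⟩ : P.FullSubcategory) ⟶ ⟨_, p₃⟩)
    (P.ι.preimage (X := ⟨_, p₃⟩) (T.mor₃ ≫ ((P.ι.commShiftIso (1 : ℤ)).app (⟨_, p₁⟩ : P.FullSubcategory)).inv))
  have hT' : T' ∈ distTriang P.FullSubcategory := by
    rw [← P.ι.map_distinguished_iff]
    refine isomorphic_distinguished _ hT _ (Triangle.isoMk _ _ (Iso.refl _) (Iso.refl _) (Iso.refl _) ?_ ?_ ?_)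
    all_goals simp [T']
    show P.ι.map (P.ι.preimage _) ≫ _ = _
    rw [Functor.map_preimage, Category.assoc, Iso.inv_hom_id_app]
    exact Category.comp_id _
  refine ⟨p₂, fun i hi => ?_⟩
  exact (H.map_distinguished_exact _ (Triangle.shift_distinguished _ hT' i)).isZero_of_both_zeros
    ((v₁ i hi).eq_of_src _ _) ((v₃ i hi).eq_of_tgt _ _)

theorem vanOutside_biprod (m : ℕ) (K L : C) (hK : vanOutside P H m K) (hL : vanOutside P H m L) :
    vanOutside P H m (K ⊞ L) :=
  vanOutside_ext P H m _ (binaryBiproductTriangle_distinguished K L) hK hL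

theorem vanOutside_of_isZero (m : ℕ) (K : C) (hK : IsZero K) : vanOutside P H m K := by
  haveI : P.ContainsZero := inferInstance
  have h : P K := P.prop_of_isZero hK
  refine ⟨h, fun i _ => H.map_isZero ((shiftFunctor P.FullSubcategory i).map_isZero ?_)⟩
  exact (IsZero.iff_id_eq_zero _).2 (ObjectProperty.hom_ext _ (hK.eq_of_src _ _))

end Vanishing

instance isStableUnderRetracts_perfect (X : Scheme.{u}) :
    ObjectProperty.IsStableUnderRetracts (fun K : DCoh.D X => DCoh.IsPerfect K) where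
  of_retract r h := RHomDual.perfect_of_retract r h

instance isClosedUnderIsomorphisms_perfect (X : Scheme.{u}) :
    ObjectProperty.IsClosedUnderIsomorphisms (fun K : DCoh.D X => DCoh.IsPerfect K) where
  of_iso e h := PCTriangle.perfect_iso e h

/-- **Boundedness on coherent modules.** -/
theorem exists_bound_on_coherent (k : Type u) [Field k] (X : Scheme.{u}) (f : X ⟶ Spec (CommRingCat.of k))
    [Smooth f] [IsProper f] [ObjectProperty.IsTriangulated (fun K : DCoh.D X => DCoh.IsPerfect K)]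
    {A : Type u'} [Category.{v'} A] [Abelian A]
    (H : (ObjectProperty.FullSubcategory (fun K : DCoh.D X => DCoh.IsPerfect K)) ⥤ A) [H.IsHomological]
    (hfin : ∀ K : (ObjectProperty.FullSubcategory (fun K : DCoh.D X => DCoh.IsPerfect K)),
      Set.Finite {i : ℤ | ¬ IsZero (H.obj ((shiftFunctor (ObjectProperty.FullSubcategory (fun K : DCoh.D X => DCoh.IsPerfect K)) i).obj K))}) :
    ∃ m : ℕ, 1 ≤ m ∧ ∀ (F : X.Modules), Coh.IsCoh F → ∀ (hF : DCoh.IsPerfect (DCoh.inD X F)) (i : ℤ),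
      (i < -(m : ℤ) ∨ (m : ℤ) < i) →
        IsZero (H.obj ((shiftFunctor (ObjectProperty.FullSubcategory (fun K : DCoh.D X => DCoh.IsPerfect K)) i).obj ⟨DCoh.inD X F, hF⟩)) := by
  classical
  haveI : CompactSpace X := QuasiCompact.compactSpace_of_compactSpace f
  haveI : IsLocallyNoetherian X := LocallyOfFiniteType.isLocallyNoetherian f
  haveI : LocallyOfFinitePresentation f := PhiPerf.lfp_of_noetherian f
  let Pf : ObjectProperty (DCoh.D X) := fun K => DCoh.IsPerfect K
  let Z : ℕ → ObjectProperty (DCoh.D X) := vanOutside Pf H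
  obtain ⟨E, G, hE, hG, henv⟩ := exists_boxEnv_diagonal k X f
  obtain ⟨n, hn⟩ := (ObjectProperty.prop_triangEnvelope_iff _ _).1 henv
  haveI := hasLpull (pullback.fst f f)
  haveI := hasLpull f
  haveI := hasRpush (pullback.snd f f)
  haveI := hasRpush f
  haveI := LTensorSheaf.hasLTensorCx ((single X.Modules (ComplexShape.up ℤ) 0).obj E)
  haveI := LTensorSheaf.hasLTensorCx ((single X.Modules (ComplexShape.up ℤ) 0).obj G)
  let ι := {F : X.Modules // Coh.IsCoh F}
  choose L hL eL using fun F : ι =>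
    PullPerf.exists_kflat_rep ((DCoh.Lpull (pullback.fst f f)).obj (DCoh.inD X F.1))
  haveI := fun F : ι => LTensorSheaf.hasLTensorCx (L F)
  let Ψ : ι → DCoh.D (pullback f f) ⥤ DCoh.D X := fun F =>
    DCoh.LTensorCx (L F) ⋙ DCoh.Rpush (pullback.snd f f)
  have hΨ : ∀ F : ι, WeakExact.TriExact (Ψ F) := fun F =>
    (TenLocal.triExact_LTensor (L F)).comp (TenLocal.triExact_Rpush (pullback.snd f f))
  -- the functor `Lf^*(-) ⊗ G`
  let Λ : DCoh.D (Spec (CommRingCat.of k)) ⥤ DCoh.D X :=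
    DCoh.Lpull f ⋙ DCoh.LTensorCx ((single X.Modules (ComplexShape.up ℤ) 0).obj G)
  have hΛ : WeakExact.TriExact Λ :=
    (TenLocal.triExact_Lpull f).comp (TenLocal.triExact_LTensor _)
  have hGp : DCoh.IsPerfect (DCoh.inD X G) := KZeroLib.isPerfect_inD_finLocFree hG
  let S₀ := (hfin ⟨DCoh.inD X G, hGp⟩).toFinset
  let m₀ := S₀.sup fun i => i.natAbs
  have hZG : Z m₀ (DCoh.inD X G) := ⟨hGp, fun i hi => by
    by_contra h
    have := Finset.le_sup (f := fun i : ℤ => i.natAbs) ((hfin ⟨DCoh.inD X G, hGp⟩).mem_toFinset.2 h)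
    change i.natAbs ≤ m₀ at this
    omega⟩
  have hfree : ∀ N : ℕ, Z m₀ (Λ.obj (DCoh.inD _ (FlatMod.freeMod (Spec (CommRingCat.of k)) N))) := by
    refine free_induction (fun M => Z m₀ (Λ.obj (DCoh.inD _ M))) (fun {M M'} e h => ?_) (fun M hM => ?_)
      (fun M M' h h' => ?_) ?_
    · exact (Z m₀).prop_of_iso (Λ.mapIso ((singleFunctor _ 0).mapIso e)) h
    · exact vanOutside_of_isZero Pf H _ _ (hΛ.map_isZero ((singleFunctor _ 0).map_isZero hM))
    · obtain ⟨δ, hδ⟩ := hΛ _ (ShortComplex.Splitting.ofHasBinaryBiproduct M M').shortExact.singleTriangle_distinguished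
      exact vanOutside_ext Pf H _ _ hδ h h'
    · obtain ⟨e⟩ := nonempty_pull_structure f G hG
      exact (Z m₀).prop_of_iso e.symm hZG
  obtain ⟨D₀, hD₀⟩ := DQCoh.exists_uniform_bound f
  let D : ℕ := D₀.toNat
  -- the bound at the box product
  have hbox : ∀ A, (ObjectProperty.ofObj (fun _ : PUnit.{u + 1} => boxD f f E G)) A →
      ∃ m, ∀ F : ι, Z m ((Ψ F).obj A) := by
    rintro _ ⟨j⟩
    refine ⟨m₀ + D, fun F => ?_⟩
    haveI : Coh.IsQCoh F.1 := F.2.1
    let sF := (single X.Modules (ComplexShape.up ℤ) 0).obj F.1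
    have hsF : DCoh.IsQCohD (DerivedCategory.Q.obj sF) :=
      DQCoh.isQCohD_of_iso ((DerivedCategory.singleFunctorIsoCompQ _ 0).app F.1)
        (DQCoh.PerfProperPush17.isQCohD_inD F.1)
    obtain ⟨eF⟩ := eL F
    obtain ⟨eB⟩ := nonempty_eval_box f f (Or.inl inferInstance) sF hsF hE hG (L F)
      (eF ≪≫ (DCoh.Lpull (pullback.fst f f)).mapIso ((DerivedCategory.singleFunctorIsoCompQ _ 0).app F.1))
    refine (Z _).prop_of_iso eB.symm ?_
    obtain ⟨eT⟩ := nonempty_tensor_single F.1 E hE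
    have eM : (DCoh.LTensorCx ((single X.Modules (ComplexShape.up ℤ) 0).obj E)).obj (DerivedCategory.Q.obj sF) ≅
        DCoh.inD X (CohB1.tensorMod F.1 E) :=
      (DCoh.LTensorCx _).mapIso ((DerivedCategory.singleFunctorIsoCompQ _ 0).app F.1).symm ≪≫ eT
    have hFp : DCoh.IsPerfect (DCoh.inD X F.1) :=
      KZeroLib.isPerfect_inD_of_isCoh (fun x => VarietyLib.isRegularLocalRing_stalk_of_smooth k X f x) _ F.2
    have hMp : DCoh.IsPerfect ((DCoh.LTensorCx ((single X.Modules (ComplexShape.up ℤ) 0).obj E)).obj (DerivedCategory.Q.obj sF)) :=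
      PerfTensor.isPerfect_LTensor (isKFlatFor_single_finLocFree hE)
        (PCTriangle.perfect_iso ((DerivedCategory.singleFunctorIsoCompQ _ 0).app E)
          (KZeroLib.isPerfect_inD_finLocFree hE)) _
        (PCTriangle.perfect_iso ((DerivedCategory.singleFunctorIsoCompQ _ 0).app F.1) hFp)
    haveI h0 : (DCoh.inD X (CohB1.tensorMod F.1 E)).IsLE 0 :=
      (inferInstance : ((singleFunctor X.Modules 0).obj (CohB1.tensorMod F.1 E)).IsLE 0)
    haveI h0' : (DCoh.inD X (CohB1.tensorMod F.1 E)).IsGE 0 :=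
      (inferInstance : ((singleFunctor X.Modules 0).obj (CohB1.tensorMod F.1 E)).IsGE 0)
    have hGE : ((DCoh.Rpush f).obj (DCoh.inD X (CohB1.tensorMod F.1 E))).IsGE 0 := RepLib.isGE_Rpush f _ 0
    have hLE : ((DCoh.Rpush f).obj (DCoh.inD X (CohB1.tensorMod F.1 E))).IsLE (D : ℤ) :=
      (DerivedCategory.isLE_iff _ _).2 fun j hj => hD₀ _
        (PerfLift.isQCohD_perfect (PCTriangle.perfect_iso eM hMp)) h0 j (by omega)
    refine (Z _).prop_of_iso (Λ.mapIso ((DCoh.Rpush f).mapIso eM)).symm ?_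
    refine perfect_amp_induction (X := Spec (CommRingCat.of k))
      (fun x => VarietyLib.isRegularLocalRing_stalk_of_smooth k _ (𝟙 _) x)
      (exists_iso_free_field k) (fun K => Z (m₀ + D) (Λ.obj K))
      (fun e h => (Z _).prop_of_iso (Λ.mapIso e) h) (fun K K' h h' => ?_)
      (fun K hK => vanOutside_of_isZero Pf H _ _ (hΛ.map_isZero hK)) 0 (D : ℤ) (fun N j hj₀ hj => ?_) _
      (PPFlat.pp_flat f _ (PCTriangle.perfect_iso eM hMp)) hGE hLE
    · obtain ⟨δ, hδ⟩ := hΛ _ (binaryBiproductTriangle_distinguished K K')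
      exact vanOutside_ext Pf H _ _ hδ h h'
    · obtain ⟨e⟩ := nonempty_shift hΛ (DCoh.inD _ (FlatMod.freeMod (Spec (CommRingCat.of k)) N)) (-j)
      exact (Z _).prop_of_iso e.symm (vanOutside_mono Pf H _ _ (by omega) _ (vanOutside_shift Pf H _ _ (-j) (hfree N)))
  obtain ⟨m, hm⟩ := family_bound Ψ hΨ Z (vanOutside_mono Pf H) (vanOutside_shift Pf H)
    (vanOutside_ext Pf H) _ hbox n hn
  refine ⟨m + 1, Nat.succ_pos _, fun F hF hFp i hi => ?_⟩
  obtain ⟨eF⟩ := eL ⟨F, hF⟩
  obtain ⟨eD⟩ := nonempty_eval_diag f (DCoh.inD X F) (L ⟨F, hF⟩) eF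
  obtain ⟨_, hv⟩ := (Z m).prop_of_iso eD (hm ⟨F, hF⟩)
  exact hv i (by omega)

end Groth.Agent.BoxRes17
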