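import Groth.Agent.BoxRes17.KernelEval
import Groth.Agent.DCat.PhiPerf
import Groth.Agent.Dual22Lib.PerfLift

/-!
# The kernel functor of a perfect object at a box product
-/

set_option autoImplicit false
set_option backward.isDefEq.respectTransparency false
set_option backward.defeqAttrib.useBackward true
set_option linter.style.haveILetI false
set_option maxHeartbeats 800000

universe u

open CategoryTheory CategoryTheory.Limits CategoryTheory.Pretriangulated DerivedCategory AlgebraicGeometry HomologicalComplex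
open Groth.Agent.DCat Groth.Agent.Dual22Lib

noncomputable section

namespace Groth.Agent.BoxRes17

attribute [local instance] HasDerivedCategory.standard

theorem nonempty_eval_glue {CX CP CY CS : Type*} [Category* CX] [Category* CP] [Category* CY] [Category* CS]
    (PP : ObjectProperty CP) (PX : ObjectProperty CX) (p : CX ⥤ CP) (q : CP ⥤ CY) (ra : CX ⥤ CS) (lb : CS ⥤ CY)
    (tE : CX ⥤ CX) (tG : CY ⥤ CY) (tL tP tQ tB : CP ⥤ CP) {B B₀ QL : CP} {M : CX}
    (eBox : B ≅ B₀) (eS : tL.obj B ≅ tB.obj QL) (eC : tP ⋙ tQ ≅ tB) (eL : QL ≅ p.obj M)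
    (eE : tE ⋙ p ≅ p ⋙ tP) (ePr : PP.ι ⋙ q ⋙ tG ≅ PP.ι ⋙ tQ ⋙ q)
    (eBC : PX.ι ⋙ ra ⋙ lb ≅ PX.ι ⋙ p ⋙ q) (hM : PX (tE.obj M)) (hpM : PP (p.obj (tE.obj M))) :
    Nonempty (q.obj (tL.obj B₀) ≅ tG.obj (lb.obj (ra.obj (tE.obj M)))) :=
  ⟨q.mapIso (tL.mapIso eBox.symm ≪≫ eS ≪≫ (eC.app _).symm ≪≫
      tQ.mapIso (tP.mapIso eL ≪≫ (eE.app _).symm)) ≪≫
    (ePr.app ⟨_, hpM⟩).symm ≪≫ tG.mapIso (eBC.app ⟨_, hM⟩).symm⟩

theorem nonempty_tot_single {P : Scheme.{u}} (M N : P.Modules) (hN : FlatMod.IsFinLocFree N) :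
    Nonempty (DerivedCategory.Q.obj (tot (shT P) ((single P.Modules (ComplexShape.up ℤ) 0).obj M)
      ((single P.Modules (ComplexShape.up ℤ) 0).obj N)) ≅ DCoh.inD P (CohB1.tensorMod M N)) := by
  haveI := LTensorSheaf.hasLTensorCx ((single P.Modules (ComplexShape.up ℤ) 0).obj N)
  obtain ⟨eB⟩ := nonempty_tensor_single M N hN
  haveI := LTensorSheaf.isIso_counit_of_right (isKFlatFor_single_finLocFree hN)
    ((single P.Modules (ComplexShape.up ℤ) 0).obj M)
  exact ⟨(asIso ((LTensorSheaf.counit ((single P.Modules (ComplexShape.up ℤ) 0).obj N)).app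
      ((single P.Modules (ComplexShape.up ℤ) 0).obj M))).symm ≪≫
    (DCoh.LTensorCx _).mapIso ((DerivedCategory.singleFunctorIsoCompQ _ 0).app M).symm ≪≫ eB⟩

variable {S X Y : Scheme.{u}} (a : X ⟶ S) (b : Y ⟶ S)

/-- `R pr₂,*((pr₁^*E ⊗ pr₂^*G) ⊗ Lpr₁^* K) ≅ G ⊗ Lb^* Ra_*(K ⊗ E)`. -/
theorem nonempty_eval_box [QuasiCompact a] [QuasiSeparated a] (hflat : Flat a ∨ Flat b)
    (K : CochainComplex X.Modules ℤ) (hK : DCoh.IsQCohD (DerivedCategory.Q.obj K))
    {E : X.Modules} {G : Y.Modules} (hE : FlatMod.IsFinLocFree E) (hG : FlatMod.IsFinLocFree G)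
    [DCoh.HasLpull (pullback.fst a b)] [DCoh.HasRpush (pullback.snd a b)] [DCoh.HasRpush a] [DCoh.HasLpull b]
    (L : CochainComplex (pullback a b).Modules ℤ) [DCoh.HasLTensorCx L]
    (eL : DerivedCategory.Q.obj L ≅ (DCoh.Lpull (pullback.fst a b)).obj (DerivedCategory.Q.obj K))
    [DCoh.HasLTensorCx ((single X.Modules (ComplexShape.up ℤ) 0).obj E)]
    [DCoh.HasLTensorCx ((single Y.Modules (ComplexShape.up ℤ) 0).obj G)] :
    Nonempty ((DCoh.Rpush (pullback.snd a b)).obj ((DCoh.LTensorCx L).obj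
        (DCoh.inD (pullback a b) (CohB1.tensorMod ((Scheme.Modules.pullback (pullback.fst a b)).obj E)
          ((Scheme.Modules.pullback (pullback.snd a b)).obj G)))) ≅
      (DCoh.LTensorCx ((single Y.Modules (ComplexShape.up ℤ) 0).obj G)).obj ((DCoh.Lpull b).obj
        ((DCoh.Rpush a).obj ((DCoh.LTensorCx ((single X.Modules (ComplexShape.up ℤ) 0).obj E)).obj
          (DerivedCategory.Q.obj K))))) := by
  let p := pullback.fst a b
  let q := pullback.snd a b
  let sE := (single X.Modules (ComplexShape.up ℤ) 0).obj E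
  let sG := (single Y.Modules (ComplexShape.up ℤ) 0).obj G
  let pE := (Scheme.Modules.pullback p).obj E
  let qG := (Scheme.Modules.pullback q).obj G
  have hpE : FlatMod.IsFinLocFree pE := FlatMorAdm.isFinLocFree_pullback p hE
  have hqG : FlatMod.IsFinLocFree qG := FlatMorAdm.isFinLocFree_pullback q hG
  let sP := (single (pullback a b).Modules (ComplexShape.up ℤ) 0).obj pE
  let sQ := (single (pullback a b).Modules (ComplexShape.up ℤ) 0).obj qG
  haveI := LTensorSheaf.hasLTensorCx sP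
  haveI := LTensorSheaf.hasLTensorCx sQ
  haveI := hasLpull q
  have hsE : DCoh.IsQCohD (DerivedCategory.Q.obj sE) := PerfLift.isQCohD_perfect
    (PCTriangle.perfect_iso ((DerivedCategory.singleFunctorIsoCompQ _ 0).app E) (KZeroLib.isPerfect_inD_finLocFree hE))
  have hsG : DCoh.IsQCohD (DerivedCategory.Q.obj sG) := PerfLift.isQCohD_perfect
    (PCTriangle.perfect_iso ((DerivedCategory.singleFunctorIsoCompQ _ 0).app G) (KZeroLib.isPerfect_inD_finLocFree hG))
  -- the box, as a tensor product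
  obtain ⟨eP⟩ := nonempty_Lpull_inD p hE
  obtain ⟨eQ⟩ := nonempty_Lpull_inD q hG
  -- symmetry and associativity
  let B := tot (shT (pullback a b)) sP sQ
  haveI := LTensorSheaf.hasLTensorCx B
  obtain ⟨eC⟩ := TensorAssoc.nonempty_LTensor_comp sP sQ (isKFlatFor_single_finLocFree hqG)
  obtain ⟨eBox⟩ := nonempty_tot_single pE qG hqG
  obtain ⟨eS⟩ := nonempty_swap' L B
  -- move past the projections
  obtain ⟨eE⟩ := PhiBaseChange.nonempty_LTensor_Lpull p sE sP
    ⟨((DerivedCategory.singleFunctorIsoCompQ _ 0).app pE).symm ≪≫ eP.symm ≪≫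
      (DCoh.Lpull p).mapIso ((DerivedCategory.singleFunctorIsoCompQ _ 0).app E)⟩
  obtain ⟨ePr⟩ := ProjNatural.nonempty_proj₁ q sG hsG sQ
    ⟨((DerivedCategory.singleFunctorIsoCompQ _ 0).app qG).symm ≪≫ eQ.symm ≪≫
      (DCoh.Lpull q).mapIso ((DerivedCategory.singleFunctorIsoCompQ _ 0).app G)⟩
  obtain ⟨eBC⟩ := PhiBaseChange.nonempty_bc a b q p (IsPullback.of_hasPullback a b) hflat
  have hM : DCoh.IsQCohD ((DCoh.LTensorCx sE).obj (DerivedCategory.Q.obj K)) :=
    DQCoh.isQCohD_LTensorCx sE hsE _ hK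
  have hpM : DCoh.IsQCohD ((DCoh.Lpull p).obj ((DCoh.LTensorCx sE).obj (DerivedCategory.Q.obj K))) :=
    DQCoh.isQCohD_Lpull p _ hM
  exact nonempty_eval_glue _ _ (DCoh.Lpull p) (DCoh.Rpush q) (DCoh.Rpush a) (DCoh.Lpull b)
    (DCoh.LTensorCx sE) (DCoh.LTensorCx sG) (DCoh.LTensorCx L) (DCoh.LTensorCx sP) (DCoh.LTensorCx sQ)
    (DCoh.LTensorCx B) eBox eS eC eL eE ePr eBC hM hpM

end Groth.Agent.BoxRes17
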