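import Mathlib.Algebra.Homology.QuasiIso
import Mathlib.Algebra.Homology.SingleHomology
import Mathlib.Algebra.Homology.ShortComplex.Abelian
import Mathlib.CategoryTheory.Abelian.Exact

/-!
# Resolutions by iterated covers
-/

set_option autoImplicit false
set_option backward.isDefEq.respectTransparency false
set_option backward.defeqAttrib.useBackward true

universe v u

open CategoryTheory CategoryTheory.Limits

namespace Groth.Agent.BoxRes17

variable {A : Type u} [Category.{v} A] [Abelian A]

/-- A left resolution of an object of `Q` by objects of `P`. -/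
theorem exists_chain_resolution (P Q : A → Prop)
    (hP : ∀ M, Q M → ∃ (Y : A) (π : Y ⟶ M), P Y ∧ Epi π)
    (hker : ∀ (Y M : A) (π : Y ⟶ M), P Y → Q M → Q (kernel π)) (M₀ : A) (h₀ : Q M₀) :
    ∃ (C : ChainComplex A ℕ) (π : C ⟶ (ChainComplex.single₀ A).obj M₀),
      QuasiIso π ∧ ∀ n, P (C.X n) := by
  choose cov covπ hcov hepi using fun M : {M : A // Q M} => hP M.1 M.2
  let seq : ℕ → {M : A // Q M} := fun n =>
    Nat.rec (motive := fun _ => {M : A // Q M}) ⟨M₀, h₀⟩
      (fun _ M => ⟨kernel (covπ M), hker _ _ _ (hcov M) M.2⟩) n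
  let C : ChainComplex A ℕ := ChainComplex.of (fun n => cov (seq n))
    (fun n => covπ (seq (n + 1)) ≫ kernel.ι (covπ (seq n)))
    (fun n => by
      simp only [Category.assoc]
      erw [kernel.condition_assoc]
      simp)
  have hd : ∀ n, C.d (n + 1) n = covπ (seq (n + 1)) ≫ kernel.ι (covπ (seq n)) := fun n =>
    (ChainComplex.of_d (fun n => cov (seq n)) (fun n => covπ (seq (n + 1)) ≫ kernel.ι (covπ (seq n))) n)
  have w : C.d 1 0 ≫ covπ (seq 0) = 0 := by
    rw [hd 0, Category.assoc, kernel.condition, comp_zero]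
  have hex : ∀ n, (ShortComplex.mk (covπ (seq (n + 1)) ≫ kernel.ι (covπ (seq n))) (covπ (seq n))
      (by rw [Category.assoc, kernel.condition, comp_zero])).Exact := fun n => by
    haveI : Epi (covπ (seq (n + 1))) := hepi _
    exact (ShortComplex.exact_iff_of_epi_of_isIso_of_mono
      (S₁ := ShortComplex.mk (covπ (seq (n + 1)) ≫ kernel.ι (covπ (seq n))) (covπ (seq n))
        (by rw [Category.assoc, kernel.condition, comp_zero]))
      (S₂ := ShortComplex.mk (kernel.ι (covπ (seq n))) (covπ (seq n)) (kernel.condition _))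
      { τ₁ := covπ (seq (n + 1)), τ₂ := 𝟙 _, τ₃ := 𝟙 _ }).2
      (ShortComplex.exact_of_f_is_kernel _ (kernelIsKernel _))
  refine ⟨C, (ChainComplex.toSingle₀Equiv _ _).symm ⟨covπ (seq 0), w⟩, ⟨fun n => ?_⟩, fun n => hcov _⟩
  cases n with
  | zero =>
    rw [ChainComplex.quasiIsoAt₀_iff, ShortComplex.quasiIso_iff_of_zeros']
    · dsimp
      refine (ShortComplex.exact_and_epi_g_iff_of_iso ?_).2 ⟨hex 0, hepi _⟩
      exact ShortComplex.isoMk (Iso.refl _) (Iso.refl _) (Iso.refl _)
        (by simpa using (hd 0).symm) (by simp)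
    all_goals rfl
  | succ n =>
    rw [quasiIsoAt_iff_exactAt']
    · rw [HomologicalComplex.exactAt_iff' _ (n + 1 + 1) (n + 1) n (by simp) (by simp)]
      have h : (ShortComplex.mk (covπ (seq (n + 1 + 1)) ≫ kernel.ι (covπ (seq (n + 1))))
          (covπ (seq (n + 1)) ≫ kernel.ι (covπ (seq n))) (by
            rw [Category.assoc, ← Category.assoc (kernel.ι (covπ (seq (n + 1))))]
            erw [kernel.condition, zero_comp, comp_zero])).Exact := by
        refine ((ShortComplex.exact_iff_of_epi_of_isIso_of_mono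
          (S₁ := ShortComplex.mk (covπ (seq (n + 1 + 1)) ≫ kernel.ι (covπ (seq (n + 1)))) (covπ (seq (n + 1)))
            (by rw [Category.assoc, kernel.condition, comp_zero]))
          (S₂ := ShortComplex.mk (covπ (seq (n + 1 + 1)) ≫ kernel.ι (covπ (seq (n + 1))))
            (covπ (seq (n + 1)) ≫ kernel.ι (covπ (seq n))) _)
          { τ₁ := 𝟙 _, τ₂ := 𝟙 _, τ₃ := kernel.ι (covπ (seq n)) }).1 (hex (n + 1)))
      refine (ShortComplex.exact_iff_of_iso ?_).2 h
      refine ShortComplex.isoMk (Iso.refl _) (Iso.refl _) (Iso.refl _) ?_ ?_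
      · simp [HomologicalComplex.sc', hd]
      · simp [HomologicalComplex.sc', hd]
    · exact HomologicalComplex.exactAt_single_obj _ _ _ _ (by simp)

end Groth.Agent.BoxRes17
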