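import Groth.Agent.BoxRes17.Surjection
import Groth.Agent.BoxRes17.Resolution
import Groth.Agent.AmpleLib.Relative
import Groth.Agent.Coherent.ProperFinite
import Groth.Agent.Coherent.FinitePres
import Groth.Agent.Coherent.CohBC.HomSheaf

/-!
# Box product resolutions of coherent modules, in particular of the diagonal
-/

set_option autoImplicit false
set_option backward.isDefEq.respectTransparency false
set_option linter.style.haveILetI false

universe u

open CategoryTheory CategoryTheory.Limits AlgebraicGeometry

noncomputable section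

namespace Groth.Agent.BoxRes17

variable {S X Y : Scheme.{u}} (f : X ⟶ S) (g : Y ⟶ S)

/-- Isomorphic to a box product of finite locally free modules. -/
def IsBox (M : (pullback f g).Modules) : Prop :=
  ∃ (E : X.Modules) (G : Y.Modules), FlatMod.IsFinLocFree E ∧ FlatMod.IsFinLocFree G ∧
    Nonempty (M ≅ CohB1.tensorMod ((Scheme.Modules.pullback (pullback.fst f g)).obj E)
      ((Scheme.Modules.pullback (pullback.snd f g)).obj G))

theorem isFinLocFree_of_isBox {M : (pullback f g).Modules} (h : IsBox f g M) :
    FlatMod.IsFinLocFree M := by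
  obtain ⟨E, G, hE, hG, ⟨e⟩⟩ := h
  exact DCat.PerfTensor.isFinLocFree_of_iso e.symm (DCat.PerfTensor.isFinLocFree_tensor
    (FlatMorAdm.isFinLocFree_pullback _ hE) (FlatMorAdm.isFinLocFree_pullback _ hG))

/-- Resolution of a coherent module on a product by box products. -/
theorem exists_box_resolution [IsAffine S] [IsLocallyNoetherian (pullback f g)]
    [CompactSpace X] [QuasiSeparatedSpace X] [CompactSpace Y] [QuasiSeparatedSpace Y]
    (hX : PerfAux.HasResolutionProperty X) (hY : PerfAux.HasResolutionProperty Y)
    (F : (pullback f g).Modules) (hF : Coh.IsCoh F) :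
    ∃ (C : ChainComplex (pullback f g).Modules ℕ) (π : C ⟶ (ChainComplex.single₀ _).obj F),
      QuasiIso π ∧ ∀ n, IsBox f g (C.X n) := by
  haveI : QuasiCompact f := HasAffineProperty.iff_of_isAffine.mpr (by infer_instance)
  haveI : QuasiCompact g := HasAffineProperty.iff_of_isAffine.mpr (by infer_instance)
  haveI : QuasiSeparated f := inferInstance
  haveI : QuasiSeparated g := inferInstance
  haveI : QuasiSeparatedSpace ↥(pullback f g) := inferInstance
  refine exists_chain_resolution (IsBox f g) Coh.IsCoh (fun M hM => ?_)
    (fun Z M π hZ hM => ?_) F hF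
  · haveI : Coh.IsQCoh M := hM.1
    obtain ⟨E, G, hE, hG, π, hπ⟩ := exists_box_epi (pullback.fst f g) (pullback.snd f g)
      (fun U V hU hV => AmpleLib.isAffineOpen_fst_inf_snd _ _ (isAffineOpen_top _) hU hV le_top le_top)
      hX hY M hM.2
    exact ⟨_, π, ⟨E, G, hE, hG, ⟨Iso.refl _⟩⟩, hπ⟩
  · exact Coherent.isCoh_kernel π (Coherent.CohBC.isCoh_of_isFinLocFree (isFinLocFree_of_isBox f g hZ)) hM.1

/-- The structure sheaf of the diagonal is coherent. -/
theorem isCoh_diagonal [IsSeparated f] [IsLocallyNoetherian X] :
    Coh.IsCoh ((Coh.push (pullback.diagonal f)).obj (Coh.structureModule X)) :=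
  Coherent.isCoh_push_finite (pullback.diagonal f) (Coherent.isCoh_structureModule X)

/-- The product is locally Noetherian. -/
theorem isLocallyNoetherian_pullback [IsLocallyNoetherian S] [LocallyOfFiniteType f] [LocallyOfFiniteType g] :
    IsLocallyNoetherian (pullback f g) :=
  LocallyOfFiniteType.isLocallyNoetherian (pullback.fst f g ≫ f)

end Groth.Agent.BoxRes17
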