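import Groth.Agent.BoxRes17.Diagonal
import Groth.Agent.DQCoh.PerfectHom
import Groth.Agent.DQCoh.PerfProperPush17
import Groth.Agent.KZeroLib.RegularPerfect
import Mathlib.CategoryTheory.Triangulated.Generators
import Mathlib.Algebra.Homology.DerivedCategory.SingleTriangle

/-!
# Perfect coherent modules on a product lie in the envelope of one box product
-/

set_option autoImplicit false
set_option backward.isDefEq.respectTransparency false
set_option backward.defeqAttrib.useBackward true
set_option linter.style.haveILetI false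
set_option maxHeartbeats 800000

universe u v

open CategoryTheory CategoryTheory.Limits CategoryTheory.Pretriangulated AlgebraicGeometry

noncomputable section

namespace Groth.Agent.BoxRes17

section Generic

variable {C : Type*} [Category* C] [HasZeroObject C] [HasShift C ℤ] [Preadditive C]
  [∀ (n : ℤ), (shiftFunctor C n).Additive] [Pretriangulated C]

theorem mem_of_trW_zero (P : ObjectProperty C) [P.IsStableUnderShift ℤ] [P.IsStableUnderRetracts]
    {A B : C} (h : P.trW (0 : A ⟶ B)) : P A := by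
  rw [ObjectProperty.trW_iff] at h
  obtain ⟨Z, g, δ, hT, hZ⟩ := h
  obtain ⟨s, hs⟩ := Triangle.coyoneda_exact₁ (Triangle.mk (0 : A ⟶ B) g δ) hT (𝟙 (A⟦(1 : ℤ)⟧))
    (by simp)
  have h1 : P (A⟦(1 : ℤ)⟧) := ObjectProperty.prop_of_retract P ⟨s, δ, hs.symm⟩ hZ
  exact ObjectProperty.prop_of_iso P ((shiftFunctorCompIsoId C (1 : ℤ) (-1) (by omega)).app A)
    (P.le_shift (-1) _ h1)

end Generic

theorem isFinLocFree_biprod {X : Scheme.{u}} {E E' : X.Modules} (h : FlatMod.IsFinLocFree E)
    (h' : FlatMod.IsFinLocFree E') : FlatMod.IsFinLocFree (E ⊞ E') :=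
  DCat.PerfTensor.isFinLocFree_of_iso (biprod.isoCoprod _ _).symm
    (show FlatMod.IsFinLocFree (E ⨿ E') from
      DCat.PerfTensor.isFinLocFree_of_iso (HasColimit.isoOfNatIso (Discrete.natIso fun j => by
          rcases j with ⟨_ | _⟩ <;> exact Iso.refl _))
        (DCat.PerfTensor.isFinLocFree_sigma (fun j : WalkingPair => (pair E E').obj ⟨j⟩)
          fun j => by cases j; exacts [h, h']))

attribute [local instance] HasDerivedCategory.standard

variable {S X Y : Scheme.{u}} (f : X ⟶ S) (g : Y ⟶ S)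

/-- The box product as an object of the derived category. -/
abbrev boxD (E : X.Modules) (G : Y.Modules) : DCoh.D (pullback f g) :=
  DCoh.inD (pullback f g) (CohB1.tensorMod ((Scheme.Modules.pullback (pullback.fst f g)).obj E)
    ((Scheme.Modules.pullback (pullback.snd f g)).obj G))

/-- The envelope of one box product. -/
abbrev boxEnv (E : X.Modules) (G : Y.Modules) : ObjectProperty (DCoh.D (pullback f g)) :=
  ObjectProperty.triangEnvelope (ObjectProperty.ofObj (fun _ : PUnit.{u + 1} => boxD f g E G))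

theorem nonempty_boxObj (E : X.Modules) (G : Y.Modules) :
    (ObjectProperty.ofObj (fun _ : PUnit.{u + 1} => boxD f g E G)).Nonempty :=
  ⟨_, ObjectProperty.ofObj_apply _ PUnit.unit⟩

/-- A retract on both factors gives a retract of the box product. -/
def boxRetract {E E' : X.Modules} {G G' : Y.Modules} (rE : Retract E E') (rG : Retract G G') :
    Retract (boxD f g E G) (boxD f g E' G') :=
  Retract.map
    { i := AmpleLib.tensorMap ((Scheme.Modules.pullback (pullback.fst f g)).map rE.i)
        ((Scheme.Modules.pullback (pullback.snd f g)).map rG.i)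
      r := AmpleLib.tensorMap ((Scheme.Modules.pullback (pullback.fst f g)).map rE.r)
        ((Scheme.Modules.pullback (pullback.snd f g)).map rG.r)
      retract := by
        rw [tensorMap_comp_tensorMap, ← Functor.map_comp, ← Functor.map_comp, rE.retract, rG.retract,
          CategoryTheory.Functor.map_id, CategoryTheory.Functor.map_id, tensorMap_id_id] }
    (DerivedCategory.singleFunctor (pullback f g).Modules 0)

theorem boxEnv_mono {E E' : X.Modules} {G G' : Y.Modules} (rE : Retract E E') (rG : Retract G G') :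
    boxEnv f g E G ≤ boxEnv f g E' G' := by
  haveI := nonempty_boxObj f g E' G'
  rw [boxEnv, ObjectProperty.triangEnvelope_le_iff]
  rintro _ ⟨i⟩
  exact ObjectProperty.prop_of_retract _ (boxRetract f g rE rG)
    (ObjectProperty.le_triangEnvelope _ _ (ObjectProperty.ofObj_apply _ PUnit.unit))

/-- A perfect coherent module is in the envelope of a single box product. -/
theorem exists_boxEnv [IsAffine S] [IsLocallyNoetherian (pullback f g)]
    [CompactSpace X] [QuasiSeparatedSpace X] [CompactSpace Y] [QuasiSeparatedSpace Y]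
    [CompactSpace ↥(pullback f g)] [QuasiSeparatedSpace ↥(pullback f g)]
    (hX : PerfAux.HasResolutionProperty X) (hY : PerfAux.HasResolutionProperty Y)
    (F : (pullback f g).Modules) (hF : Coh.IsCoh F) (hP : DCoh.IsPerfect (DCoh.inD (pullback f g) F)) :
    ∃ (E : X.Modules) (G : Y.Modules), FlatMod.IsFinLocFree E ∧ FlatMod.IsFinLocFree G ∧
      boxEnv f g E G (DCoh.inD (pullback f g) F) := by
  haveI : QuasiCompact f := HasAffineProperty.iff_of_isAffine.mpr (by infer_instance)
  haveI : QuasiCompact g := HasAffineProperty.iff_of_isAffine.mpr (by infer_instance)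
  haveI : QuasiSeparated f := inferInstance
  haveI : QuasiSeparated g := inferInstance
  have key : ∀ n : ℕ, ∃ (E : X.Modules) (G : Y.Modules) (K : (pullback f g).Modules)
      (φ : DCoh.inD (pullback f g) F ⟶ (DCoh.inD (pullback f g) K)⟦(n : ℤ)⟧),
      FlatMod.IsFinLocFree E ∧ FlatMod.IsFinLocFree G ∧ Coh.IsCoh K ∧ (boxEnv f g E G).trW φ := by
    intro n
    induction n with
    | zero =>
      obtain ⟨E₀, hE₀⟩ := HasZeroObject.zero (C := X.Modules)
      obtain ⟨G₀, hG₀⟩ := HasZeroObject.zero (C := Y.Modules)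
      haveI := nonempty_boxObj f g E₀ G₀
      exact ⟨E₀, G₀, F, ((shiftFunctorZero (DCoh.D (pullback f g)) ℤ).app _).inv,
        DCat.PerfTensor.isFinLocFree_of_isZero hE₀, DCat.PerfTensor.isFinLocFree_of_isZero hG₀, hF,
        ObjectProperty.trW_of_isIso _ _⟩
    | succ n ih =>
      obtain ⟨E, G, K, φ, hE, hG, hK, hφ⟩ := ih
      haveI : Coh.IsQCoh K := hK.1
      obtain ⟨E₁, G₁, hE₁, hG₁, π, hπ⟩ := exists_box_epi (pullback.fst f g) (pullback.snd f g)
        (fun U V hU hV => AmpleLib.isAffineOpen_fst_inf_snd _ _ (isAffineOpen_top _) hU hV le_top le_top)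
        hX hY K hK.2
      have hB := Coherent.CohBC.isCoh_of_isFinLocFree
        (isFinLocFree_of_isBox f g ⟨E₁, G₁, hE₁, hG₁, ⟨Iso.refl _⟩⟩)
      have hK' : Coh.IsCoh (kernel π) := Coherent.isCoh_kernel π hB hK.1
      have hS := H8Lim.shortExact_kernel π
      have hT := rot_of_distTriang _ hS.singleTriangle_distinguished
      haveI : HasFiniteBiproducts X.Modules := Abelian.hasFiniteBiproducts
      haveI : HasFiniteBiproducts Y.Modules := Abelian.hasFiniteBiproducts
      haveI := nonempty_boxObj f g (E ⊞ E₁) (G ⊞ G₁)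
      have hmono := boxEnv_mono f g (⟨biprod.inl, biprod.fst, biprod.inl_fst⟩ : Retract E (E ⊞ E₁))
        (⟨biprod.inl, biprod.fst, biprod.inl_fst⟩ : Retract G (G ⊞ G₁))
      have hB' : boxEnv f g (E ⊞ E₁) (G ⊞ G₁) (boxD f g E₁ G₁) :=
        ObjectProperty.prop_of_retract _ (boxRetract f g
          (⟨biprod.inr, biprod.snd, biprod.inr_snd⟩ : Retract E₁ (E ⊞ E₁))
          (⟨biprod.inr, biprod.snd, biprod.inr_snd⟩ : Retract G₁ (G ⊞ G₁)))
          (ObjectProperty.le_triangEnvelope _ _ (ObjectProperty.ofObj_apply _ PUnit.unit))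
      refine ⟨E ⊞ E₁, G ⊞ G₁, kernel π, φ ≫ hS.singleδ⟦(n : ℤ)⟧' ≫
        (shiftFunctorAdd' (DCoh.D (pullback f g)) (1 : ℤ) (n : ℤ) ((n + 1 : ℕ) : ℤ) (by omega)).inv.app _,
        isFinLocFree_biprod hE hE₁, isFinLocFree_biprod hG hG₁, hK', ?_⟩
      refine MorphismProperty.comp_mem _ _ _ ((ObjectProperty.trW_monotone hmono) _ hφ)
        (MorphismProperty.comp_mem _ _ _ (ObjectProperty.trW.shift (P := boxEnv f g (E ⊞ E₁) (G ⊞ G₁)) ?_ _)
          (ObjectProperty.trW_of_isIso _ _))
      exact ObjectProperty.trW.mk' _ hT hB'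
  obtain ⟨N, hN⟩ := DQCoh.upperBound_perfect _ hP
  obtain ⟨E, G, K, φ, hE, hG, hK, hφ⟩ := key N.toNat
  refine ⟨E, G, hE, hG, mem_of_trW_zero _ (B := (DCoh.inD (pullback f g) K)⟦(N.toNat : ℤ)⟧) ?_⟩
  haveI : Coh.IsQCoh K := hK.1
  haveI hle : (DCoh.inD (pullback f g) K).IsLE 0 :=
    (inferInstance : ((DerivedCategory.singleFunctor (pullback f g).Modules 0).obj K).IsLE 0)
  have h0 := hN _ (-(N.toNat : ℤ)) (DQCoh.isQCohD_shift (DQCoh.PerfProperPush17.isQCohD_inD K) _)
    (DerivedCategory.TStructure.t.isLE_shift _ 0 (N.toNat : ℤ) _ (by omega)) 0 (by omega)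
    (((shiftFunctorZero' (DCoh.D (pullback f g)) (-(0 : ℤ)) (by omega)).hom.app _) ≫ φ)
  rw [Preadditive.IsIso.comp_left_eq_zero] at h0
  exact h0 ▸ hφ

end Groth.Agent.BoxRes17
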