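import Groth.Agent.BoxRes17.IterMap
import Groth.Agent.Dual22Lib.WeakExact

/-!
# Weakly exact functors and iterated triangulated envelopes
-/

set_option autoImplicit false
set_option backward.isDefEq.respectTransparency false
set_option backward.defeqAttrib.useBackward true
set_option linter.style.haveILetI false

universe v v' u u'

open CategoryTheory CategoryTheory.Limits ZeroObject CategoryTheory.Pretriangulated Groth.Agent.Dual22Lib.WeakExact

namespace Groth.Agent.BoxRes17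

variable {C : Type u} [Category.{v} C] [Preadditive C] [HasZeroObject C] [HasShift C ℤ]
  [∀ n : ℤ, (shiftFunctor C n).Additive] [Pretriangulated C]
  {D : Type u'} [Category.{v'} D] [Preadditive D] [HasZeroObject D] [HasShift D ℤ]
  [∀ n : ℤ, (shiftFunctor D n).Additive] [Pretriangulated D]

theorem nonempty_shift_one {F : C ⥤ D} (hF : TriExact F) (Y : C) :
    Nonempty (F.obj (Y⟦(1 : ℤ)⟧) ≅ (F.obj Y)⟦(1 : ℤ)⟧) := by
  obtain ⟨δ, hδ⟩ := hF _ (rot_of_distTriang _ (contractible_distinguished Y))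
  have h2 : IsZero (F.obj (0 : C)) := hF.map_isZero (isZero_zero C)
  haveI : IsIso δ := (Triangle.isZero₂_iff_isIso₃ _ hδ).1 h2
  exact ⟨asIso δ⟩

theorem nonempty_shift {F : C ⥤ D} (hF : TriExact F) (Y : C) (a : ℤ) :
    Nonempty (F.obj (Y⟦a⟧) ≅ (F.obj Y)⟦a⟧) := by
  induction a using Int.induction_on generalizing Y with
  | zero => exact ⟨F.mapIso ((shiftFunctorZero C ℤ).app Y) ≪≫ ((shiftFunctorZero D ℤ).app _).symm⟩
  | succ i ih =>
    obtain ⟨e⟩ := ih Y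
    obtain ⟨e'⟩ := nonempty_shift_one hF (Y⟦(i : ℤ)⟧)
    exact ⟨F.mapIso ((shiftFunctorAdd' C (i : ℤ) 1 _ rfl).app Y) ≪≫ e' ≪≫
      (shiftFunctor D (1 : ℤ)).mapIso e ≪≫ ((shiftFunctorAdd' D (i : ℤ) 1 _ rfl).app _).symm⟩
  | pred i ih =>
    obtain ⟨e⟩ := ih Y
    obtain ⟨e'⟩ := nonempty_shift_one hF (Y⟦(-(i : ℤ) - 1)⟧)
    exact ⟨(shiftFunctor D (1 : ℤ)).preimageIso (e'.symm ≪≫
      F.mapIso ((shiftFunctorAdd' C (-(i : ℤ) - 1) 1 (-(i : ℤ)) (by omega)).app Y).symm ≪≫ e ≪≫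
      (shiftFunctorAdd' D (-(i : ℤ) - 1) 1 (-(i : ℤ)) (by omega)).app _)⟩

theorem nonempty_biprod {F : C ⥤ D} (hF : TriExact F) (A B : C) :
    Nonempty (F.obj (A ⊞ B) ≅ F.obj A ⊞ F.obj B) := by
  obtain ⟨δ, hδ⟩ := hF _ (binaryBiproductTriangle_distinguished A B)
  haveI : IsSplitMono (F.map (biprod.inl : A ⟶ A ⊞ B)) := inferInstance
  obtain ⟨e, -, -⟩ := exists_iso_binaryBiproduct_of_distTriang _ hδ
    (Triangle.mor₃_eq_zero_of_mono₁ _ hδ (inferInstanceAs (Mono (F.map (biprod.inl : A ⟶ A ⊞ B)))))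
  exact ⟨e⟩

/-- A weakly exact functor respects the zeroth envelope. -/
theorem map_iter0_tri {F : C ⥤ D} (hF : TriExact F) (P : ObjectProperty C) (Q : ObjectProperty D)
    (hPQ : ∀ A, P A → iter0 Q (F.obj A)) {A : C} (hA : iter0 P A) : iter0 Q (F.obj A) := by
  obtain ⟨A', hA', ⟨r⟩⟩ := hA
  refine ObjectProperty.prop_of_retract _ (r.map F) ?_
  clear r
  induction hA' with
  | of_isoClosure e _ ih => exact (iter0 Q).prop_of_iso (F.mapIso e) ih
  | of_mem X hX =>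
    obtain ⟨Y, a, e, hY⟩ := hX
    obtain ⟨e'⟩ := nonempty_shift hF Y a
    exact (iter0 Q).prop_of_iso (F.mapIso e ≪≫ e').symm ((iter0 Q).le_shift a _ (hPQ _ hY))
  | of_limitPresentation pres h ih =>
    have e : _ ≅ pres.diag.obj ⟨.left⟩ ⊞ pres.diag.obj ⟨.right⟩ :=
      (IsLimit.conePointUniqueUpToIso pres.isLimit (limit.isLimit pres.diag)) ≪≫
        (HasLimit.isoOfNatIso (Discrete.natIso fun j => by
          rcases j with ⟨_ | _⟩ <;> exact Iso.refl _)) ≪≫ (biprod.isoProd _ _).symm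
    obtain ⟨e'⟩ := nonempty_biprod hF (pres.diag.obj ⟨.left⟩) (pres.diag.obj ⟨.right⟩)
    exact (iter0 Q).prop_of_iso (F.mapIso e ≪≫ e').symm (iter0_biprod Q (ih _) (ih _))

/-- A weakly exact functor respects the number of extensions. -/
theorem map_iter_tri {F : C ⥤ D} (hF : TriExact F) (P : ObjectProperty C) (Q : ObjectProperty D)
    (hPQ : ∀ A, P A → iter0 Q (F.obj A)) :
    ∀ (n : ℕ) {A : C}, P.triangEnvelopeIter n A → Q.triangEnvelopeIter n (F.obj A)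
  | 0, A, hA => by
    rw [ObjectProperty.triangEnvelopeIter_zero] at hA ⊢
    exact map_iter0_tri hF P Q hPQ hA
  | n + 1, A, hA => by
    rw [ObjectProperty.triangEnvelopeIter_succ] at hA ⊢
    obtain ⟨A', ⟨Y, Z, f, g, h, hT, hY, hZ⟩, ⟨r⟩⟩ := hA
    obtain ⟨δ, hδ⟩ := hF _ hT
    exact ⟨F.obj A', ⟨F.obj Y, F.obj Z, _, _, δ, hδ, map_iter0_tri hF P Q hPQ hY, map_iter_tri hF P Q hPQ n hZ⟩,
      ⟨r.map F⟩⟩

end Groth.Agent.BoxRes17
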