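import Groth.Agent.BoxRes17.IterMap
import Groth.Agent.DQCoh.PerfectHom
import Groth.Agent.DQCoh.Local
import Groth.Agent.DQCoh.HocolimPerf
import Groth.Agent.DQCoh.RHomInjBound
import Groth.Agent.KZeroLib.RegularPerfect
import Groth.Agent.Props12.FinLocFree
import Groth.Agent.H8Lim.ModEq
import Mathlib.Algebra.Category.ModuleCat.Basic

/-!
# Perfect objects on an affine scheme whose coherent modules are free
-/

set_option autoImplicit false
set_option backward.isDefEq.respectTransparency false
set_option backward.defeqAttrib.useBackward true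
set_option linter.style.haveILetI false
set_option maxHeartbeats 800000

universe u

open CategoryTheory CategoryTheory.Limits CategoryTheory.Pretriangulated DerivedCategory AlgebraicGeometry
open Groth.Agent.Coherent Groth.Agent.DCat Groth.Agent.DQCoh

noncomputable section

namespace Groth.Agent.BoxRes17

attribute [local instance] HasDerivedCategory.standard

variable {X : Scheme.{u}}

/-- Induction over finite free modules. -/
theorem free_induction (Φ : X.Modules → Prop) (hiso : ∀ {M N : X.Modules}, (M ≅ N) → Φ M → Φ N)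
    (hzero : ∀ M : X.Modules, IsZero M → Φ M) (hbip : ∀ M N : X.Modules, Φ M → Φ N → Φ (M ⊞ N))
    (hO : Φ (Coh.structureModule X)) : ∀ n : ℕ, Φ (FlatMod.freeMod X n) := by
  suffices h : ∀ n : ℕ, Φ (∐ fun _ : Fin n => Coh.structureModule X) from h
  intro n
  induction n with
  | zero => exact hzero _ ((IsZero.iff_id_eq_zero _).2 (Sigma.hom_ext _ _ fun i => i.elim0))
  | succ n ih =>
    let f : Fin (n + 1) → X.Modules := fun _ => Coh.structureModule X
    let g : Fin n → X.Modules := fun i => f i.succ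
    let p : ∐ f ⟶ ∐ g := Sigma.desc (Fin.cases (0 : f 0 ⟶ ∐ g) fun i => Sigma.ι g i)
    let r : ∐ f ⟶ f 0 := Sigma.desc (Fin.cases (𝟙 (f 0)) fun i => (0 : f i.succ ⟶ f 0))
    let sp : (ShortComplex.mk (Sigma.ι f 0) p (Sigma.ι_desc _ _)).Splitting :=
      { r := r
        s := Sigma.desc fun i => Sigma.ι f i.succ
        f_r := Sigma.ι_desc _ _
        s_g := Sigma.hom_ext _ _ fun i => by simp [p, g]
        id := Sigma.hom_ext _ _ fun i => by
          induction i using Fin.cases <;> simp [p, r, g] }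
    exact hiso sp.isoBinaryBiproduct.symm (hbip _ _ hO ih)

/-- Degree vanishing out of free modules on an affine scheme. -/
theorem eq_zero_of_free [IsAffine X] (n : ℕ) (E : DCoh.D X) (b : ℤ) (hE : DCoh.IsQCohD E) (hb : E.IsLE b)
    (i : ℤ) (hi : b < i) (φ : (DCoh.inD X (FlatMod.freeMod X n))⟦-i⟧ ⟶ E) : φ = 0 := by
  revert φ
  refine free_induction (fun M => ∀ φ : (DCoh.inD X M)⟦-i⟧ ⟶ E, φ = 0) (fun {M N} e h φ => ?_)
    (fun M hM φ => ?_) (fun M N hM hN φ => ?_) ?_ n
  · rw [← cancel_epi ((shiftFunctor (DCoh.D X) (-i)).map ((singleFunctor X.Modules 0).map e.hom)), comp_zero]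
    exact h _
  · exact ((shiftFunctor (DCoh.D X) (-i)).map_isZero ((singleFunctor X.Modules 0).map_isZero hM)).eq_of_src _ _
  · have := (ShortComplex.Splitting.ofHasBinaryBiproduct M N).shortExact.singleTriangle_distinguished
    obtain ⟨y, hy⟩ := Triangle.yoneda_exact₂ _ (Triangle.shift_distinguished _ this (-i)) φ (by
      dsimp; rw [Linear.units_smul_comp]; simp [hM])
    rw [hy, hN y, comp_zero]
  · intro φ
    have h0 : ∀ ψ : ((sec X).pt.obj (⊤ : X.Opens))⟦-i⟧ ⟶ E, ψ = 0 := fun ψ => by
      obtain ⟨y, hy⟩ := (shiftFunctor (DCoh.D X) (-i)).map_surjective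
        (ψ ≫ (shiftFunctorCompIsoId (DCoh.D X) i (-i) (by omega)).inv.app E)
      have hy0 : y = 0 := by
        refine (bijective_θ (E⟦i⟧) (DQCoh.isQCohD_shift hE i) (isAffineOpen_top X)).1 ?_
        refine IsZero.eq_of_tgt ?_ _ _
        exact (isZero_of_isLE E b i hi).of_iso (((homologyFunctor X.Modules 0).shiftIso i 0 i (by omega)).app E)
      rw [← cancel_mono ((shiftFunctorCompIsoId (DCoh.D X) i (-i) (by omega)).inv.app E), zero_comp, ← hy, hy0,
        Functor.map_zero]
    have e : (sec X).pt.obj (⊤ : X.Opens) ≅ DCoh.inD X (Coh.structureModule X) :=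
      (singleFunctor X.Modules 0).mapIso (topStructIso X)
    rw [← cancel_epi ((shiftFunctor (DCoh.D X) (-i)).map e.hom), comp_zero]
    exact h0 _

/-- Free modules are in the zeroth envelope of the structure sheaf. -/
theorem free_mem_iter0 (n : ℕ) :
    iter0 (ObjectProperty.ofObj (fun _ : PUnit.{u + 1} => DCoh.inD X (Coh.structureModule X)))
      (DCoh.inD X (FlatMod.freeMod X n)) := by
  refine free_induction (fun M => iter0 _ (DCoh.inD X M)) (fun {M N} e h => ?_) (fun M hM => ?_)
    (fun M N hM hN => ?_) ?_ n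
  · exact (iter0 _).prop_of_iso ((singleFunctor X.Modules 0).mapIso e) h
  · exact iter0_of_isZero _ (ObjectProperty.ofObj_apply _ PUnit.unit) ((singleFunctor X.Modules 0).map_isZero hM)
  · haveI := preservesBinaryBiproducts_of_preservesBiproducts (singleFunctor X.Modules 0)
    exact (iter0 _).prop_of_iso ((singleFunctor X.Modules 0).mapBiprod M N).symm (iter0_biprod _ hM hN)
  · exact ObjectProperty.le_retractClosure _ _ (ObjectProperty.le_limitsClosure _ _ _
      (ObjectProperty.le_shiftClosure _ _ (ObjectProperty.ofObj_apply _ PUnit.unit)))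

/-- Induction over perfect objects of bounded amplitude when coherent modules are free. -/
theorem perfect_amp_induction [IsAffine X] [IsNoetherian X]
    (hreg : ∀ x : X, IsRegularLocalRing (X.presheaf.stalk x))
    (hfree : ∀ M : X.Modules, Coh.IsCoh M → ∃ n, Nonempty (M ≅ FlatMod.freeMod X n))
    (Φ : ObjectProperty (DCoh.D X)) (hiso : ∀ {K L : DCoh.D X}, (K ≅ L) → Φ K → Φ L)
    (hbip : ∀ K L : DCoh.D X, Φ K → Φ L → Φ (K ⊞ L)) (hzero : ∀ K : DCoh.D X, IsZero K → Φ K) (a b₀ : ℤ)
    (hbase : ∀ (n : ℕ) (j : ℤ), a ≤ j → j ≤ b₀ → Φ ((DCoh.inD X (FlatMod.freeMod X n))⟦-j⟧))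
    (K : DCoh.D X) (hK : DCoh.IsPerfect K) (ha : K.IsGE a) (hb : K.IsLE b₀) : Φ K := by
  have hc := ((KZeroLib.isPerfect_iff_bounded_coh hreg K).1 hK).1
  obtain ⟨t, ht⟩ : ∃ t : ℕ, b₀ - a < t := ⟨(b₀ - a + 1).toNat, by omega⟩
  obtain ⟨b, hbb, hb', ht'⟩ : ∃ b : ℤ, b ≤ b₀ ∧ K.IsLE b ∧ b - a < t := ⟨b₀, le_rfl, hb, ht⟩
  clear hK hb ht
  rename' hb' => hb, ht' => ht
  induction t generalizing K b with
  | zero =>
    haveI := ha
    haveI := hb
    exact hzero _ (TStructure.t.isZero K b a (by omega))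
  | succ t ih =>
    haveI := ha
    haveI := hb
    by_cases hab : b < a
    · exact hzero _ (TStructure.t.isZero K b a hab)
    have hT := TStructure.t.triangleLTGE_distinguished b K
    haveI hA : ((TStructure.t.truncLT b).obj K).IsLE (b - 1) := TStructure.t.isLE_truncLT_obj K b (b - 1) (by omega)
    haveI hA' : ((TStructure.t.truncLT b).obj K).IsGE a := inferInstance
    haveI : ((TStructure.t.truncGE b).obj K).IsLE b := inferInstance
    obtain ⟨H, ⟨eH⟩⟩ := exists_iso_singleFunctor_obj_of_isGE_of_isLE ((TStructure.t.truncGE b).obj K) b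
    have hAc : DCoh.IsCohD ((TStructure.t.truncLT b).obj K) := DQCoh.isCohD_truncLT _ hc b
    haveI := DQCoh.PerfApprox.isIso_homology_truncGEπ K b b le_rfl
    have hH : Coh.IsCoh H := Coherent.isCoh_of_iso
      (asIso ((homologyFunctor X.Modules b).map ((TStructure.t.truncGEπ b).app K)) ≪≫
        (homologyFunctor X.Modules b).mapIso eH ≪≫ (singleFunctorCompHomologyFunctorIso X.Modules b).app H) (hc b)
    obtain ⟨n, ⟨en⟩⟩ := hfree H hH
    have e3 : (TStructure.t.truncGE b).obj K ≅ (DCoh.inD X (FlatMod.freeMod X n))⟦-b⟧ :=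
      eH ≪≫ ((singleFunctors X.Modules).shiftIso (-b) b 0 (by omega)).symm.app H ≪≫
        (shiftFunctor (DCoh.D X) (-b)).mapIso ((singleFunctor X.Modules 0).mapIso en)
    obtain ⟨e, -, -⟩ := exists_iso_binaryBiproduct_of_distTriang _ hT (by
      rw [← cancel_epi e3.inv, comp_zero]
      refine eq_zero_of_free n _ (b - 2) ?_ (TStructure.t.isLE_shift _ (b - 1) 1 (b - 2) (by omega)) b
        (by omega) _
      exact DQCoh.isQCohD_shift (fun j => (hAc j).1) 1)
    refine hiso e.symm (hbip _ _ (ih _ hA' hAc (b - 1) (by omega) hA (by omega)) ?_)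
    exact hiso e3.symm (hbase n b (by omega) hbb)

/-- Perfect objects on an affine scheme with free coherent modules are sums of shifts of `O`. -/
theorem perfect_mem_iter0 [IsAffine X] [IsNoetherian X]
    (hreg : ∀ x : X, IsRegularLocalRing (X.presheaf.stalk x))
    (hfree : ∀ M : X.Modules, Coh.IsCoh M → ∃ n, Nonempty (M ≅ FlatMod.freeMod X n))
    (K : DCoh.D X) (hK : DCoh.IsPerfect K) :
    iter0 (ObjectProperty.ofObj (fun _ : PUnit.{u + 1} => DCoh.inD X (Coh.structureModule X))) K := by
  obtain ⟨-, a, b, ha, hb⟩ := (KZeroLib.isPerfect_iff_bounded_coh hreg K).1 hK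
  exact perfect_amp_induction hreg hfree (iter0 _) (fun e h => (iter0 _).prop_of_iso e h)
    (fun _ _ h h' => iter0_biprod _ h h') (fun Z hZ => iter0_of_isZero _ (ObjectProperty.ofObj_apply _ PUnit.unit) hZ)
    a b (fun n j _ _ => (iter0 _).le_shift _ _ (free_mem_iter0 n)) K hK ha hb

end Groth.Agent.BoxRes17
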