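import Groth.Agent.BoxRes17.Envelope
import Groth.Agent.Lef23.ResolutionShift
import Groth.Agent.VarietyLib.SmoothStalk

/-!
# The diagonal of a smooth separated scheme over a field
-/

set_option autoImplicit false
set_option backward.isDefEq.respectTransparency false
set_option linter.style.haveILetI false

universe u

open CategoryTheory CategoryTheory.Limits AlgebraicGeometry

noncomputable section

namespace Groth.Agent.BoxRes17

attribute [local instance] HasDerivedCategory.standard

/-- `O_Δ` lies in the envelope of one box product of finite locally free modules. -/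
theorem exists_boxEnv_diagonal (k : Type u) [Field k] (X : Scheme.{u}) (f : X ⟶ Spec (.of k))
    [CompactSpace X] [IsSeparated f] [Smooth f] :
    ∃ (E G : X.Modules), FlatMod.IsFinLocFree E ∧ FlatMod.IsFinLocFree G ∧
      boxEnv f f E G (DCoh.inD (pullback f f) ((Coh.push (pullback.diagonal f)).obj (Coh.structureModule X))) := by
  haveI : IsLocallyNoetherian X := LocallyOfFiniteType.isLocallyNoetherian f
  haveI : IsNoetherian X := ⟨⟩
  haveI : X.IsSeparated := ⟨by
    rw [← Subsingleton.elim (f ≫ terminal.from (Spec (.of k))) (terminal.from X)]
    infer_instance⟩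
  haveI : QuasiCompact f := HasAffineProperty.iff_of_isAffine.mpr (by infer_instance)
  haveI : IsLocallyNoetherian (pullback f f) := isLocallyNoetherian_pullback f f
  haveI : CompactSpace ↥(pullback f f) := QuasiCompact.compactSpace_of_compactSpace (pullback.fst f f)
  haveI : QuasiSeparatedSpace ↥(pullback f f) := inferInstance
  haveI : Smooth (pullback.fst f f ≫ f) := inferInstance
  have hreg := fun x => VarietyLib.isRegularLocalRing_stalk_of_smooth k X f x
  have hres := Lef23.hasResolutionProperty_of_regular X hreg
  exact exists_boxEnv f f hres hres _ (isCoh_diagonal f)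
    (KZeroLib.isPerfect_inD_of_isCoh
      (fun x => VarietyLib.isRegularLocalRing_stalk_of_smooth k _ (pullback.fst f f ≫ f) x) _ (isCoh_diagonal f))

end Groth.Agent.BoxRes17
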