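import Groth.Agent.BoxRes17.BoxEval
import Groth.Agent.BoxRes17.IterMapTri
import Groth.Agent.BoxRes17.PointSpace
import Groth.Agent.BoxRes17.Smooth
import Groth.Agent.Dual22Lib.PPFlat
import Groth.Agent.Coherent.CohBC.PushStructure
import Groth.Prelude.Def_StMod

/-!
# Strong generation of the perfect objects of a smooth proper scheme over a field
-/

set_option autoImplicit false
set_option backward.isDefEq.respectTransparency false
set_option backward.defeqAttrib.useBackward true
set_option linter.style.haveILetI false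
set_option maxHeartbeats 1600000

universe u

open CategoryTheory CategoryTheory.Limits CategoryTheory.Pretriangulated DerivedCategory AlgebraicGeometry HomologicalComplex
open Groth.Agent.DCat Groth.Agent.Dual22Lib

noncomputable section

namespace Groth.Agent.BoxRes17

attribute [local instance] HasDerivedCategory.standard

/-- The kernel functor at the diagonal. -/
theorem nonempty_eval_diag {S X : Scheme.{u}} (a : X ⟶ S) [IsSeparated a]
    [DCoh.HasLpull (pullback.fst a a)] [DCoh.HasRpush (pullback.snd a a)]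
    (K : DCoh.D X) (L : CochainComplex (pullback a a).Modules ℤ) [DCoh.HasLTensorCx L]
    (eL : DerivedCategory.Q.obj L ≅ (DCoh.Lpull (pullback.fst a a)).obj K) :
    Nonempty ((DCoh.Rpush (pullback.snd a a)).obj ((DCoh.LTensorCx L).obj
      (DCoh.inD (pullback a a) ((Coh.push (pullback.diagonal a)).obj (Coh.structureModule X)))) ≅ K) := by
  let sD := (single (pullback a a).Modules (ComplexShape.up ℤ) 0).obj
    ((Coh.push (pullback.diagonal a)).obj (Coh.structureModule X))
  haveI := LTensorSheaf.hasLTensorCx sD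
  obtain ⟨eD⟩ := PhiDiag.nonempty_phi_diag a sD ⟨((DerivedCategory.singleFunctorIsoCompQ _ 0).app _).symm⟩
  obtain ⟨eS⟩ := nonempty_swap' L sD
  exact ⟨(DCoh.Rpush (pullback.snd a a)).mapIso
      ((DCoh.LTensorCx L).mapIso ((DerivedCategory.singleFunctorIsoCompQ _ 0).app _) ≪≫ eS ≪≫
        (DCoh.LTensorCx sD).mapIso eL) ≪≫ eD.app K⟩

/-- Coherent modules on the spectrum of a field are free. -/
theorem exists_iso_free_field (k : Type u) [Field k] (M : (Spec (CommRingCat.of k)).Modules) (hM : Coh.IsCoh M) :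
    ∃ n, Nonempty (M ≅ FlatMod.freeMod (Spec (CommRingCat.of k)) n) := by
  have hF : IsField Γ(Spec (CommRingCat.of k), ⊤) :=
    MulEquiv.isField (Field.toIsField k) (Scheme.ΓSpecIso (CommRingCat.of k)).commRingCatIsoToRingEquiv.toMulEquiv
  haveI := ((Coherent.isCoh_iff_finite_sections M).1 hM).2 ⊤ (isAffineOpen_top _)
  haveI : Coh.IsQCoh M := hM.1
  letI := hF.toField
  exact ⟨_, Props12.exists_iso_freeMod_of_basis M (Module.finBasis Γ(Spec (CommRingCat.of k), ⊤) Γ(M, ⊤))⟩

/-- The functor `Lb^*(-) ⊗ G` sends `O` to `G`. -/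
theorem nonempty_pull_structure {X S : Scheme.{u}} (b : X ⟶ S) [DCoh.HasLpull b] (G : X.Modules)
    (hG : FlatMod.IsFinLocFree G) [DCoh.HasLTensorCx ((single X.Modules (ComplexShape.up ℤ) 0).obj G)] :
    Nonempty ((DCoh.LTensorCx ((single X.Modules (ComplexShape.up ℤ) 0).obj G)).obj
      ((DCoh.Lpull b).obj (DCoh.inD S (Coh.structureModule S))) ≅ DCoh.inD X G) := by
  obtain ⟨e₁⟩ := nonempty_Lpull_inD b (Coherent.CohBC.isFinLocFree_structureModule S)
  obtain ⟨e₂⟩ := nonempty_tensor_single (Coh.structureModule X) G hG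
  haveI : (TopologicalSpace.Opens.map b.base).Final := _root_.StMod.opensMap_final b
  haveI : IsIso (SheafOfModules.pullbackObjUnitToUnit b.toRingCatSheafHom) := inferInstance
  let eU : (Scheme.Modules.pullback b).obj (Coh.structureModule S) ≅ Coh.structureModule X :=
    asIso (SheafOfModules.pullbackObjUnitToUnit b.toRingCatSheafHom)
  exact ⟨(DCoh.LTensorCx _).mapIso (e₁ ≪≫ (DerivedCategory.singleFunctor _ 0).mapIso eU) ≪≫ e₂ ≪≫
    (DerivedCategory.singleFunctor _ 0).mapIso (AmpleLib.unitTensorIso G)⟩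

/-- **Strong generation.** -/
theorem exists_strong_generator (k : Type u) [Field k] (X : Scheme.{u}) (f : X ⟶ Spec (CommRingCat.of k))
    [IsProper f] [Smooth f] :
    ∃ (E : DCoh.D X) (n : ℕ), DCoh.IsPerfect E ∧
      ∀ K : DCoh.D X, DCoh.IsPerfect K →
        ObjectProperty.triangEnvelopeIter (ObjectProperty.ofObj (fun _ : PUnit.{u + 1} => E)) n K := by
  haveI : CompactSpace X := QuasiCompact.compactSpace_of_compactSpace f
  obtain ⟨E, G, hE, hG, henv⟩ := exists_boxEnv_diagonal k X f
  obtain ⟨n, hn⟩ := (ObjectProperty.prop_triangEnvelope_iff _ _).1 henv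
  refine ⟨DCoh.inD X G, n, KZeroLib.isPerfect_inD_finLocFree hG, fun K hK => ?_⟩
  obtain ⟨K₀, -, ⟨eK⟩⟩ := PullPerf.exists_kflat_rep K
  haveI := hasLpull (pullback.fst f f)
  haveI := hasLpull f
  haveI := hasRpush (pullback.snd f f)
  haveI := hasRpush f
  obtain ⟨L, -, ⟨eL⟩⟩ := PullPerf.exists_kflat_rep ((DCoh.Lpull (pullback.fst f f)).obj K)
  haveI := LTensorSheaf.hasLTensorCx L
  haveI := LTensorSheaf.hasLTensorCx ((single X.Modules (ComplexShape.up ℤ) 0).obj E)
  haveI := LTensorSheaf.hasLTensorCx ((single X.Modules (ComplexShape.up ℤ) 0).obj G)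
  have hK₀ : DCoh.IsQCohD (DerivedCategory.Q.obj K₀) :=
    PerfLift.isQCohD_perfect (PCTriangle.perfect_iso eK.symm hK)
  obtain ⟨eB⟩ := nonempty_eval_box f f (Or.inl inferInstance) K₀ hK₀ hE hG L
    (eL ≪≫ (DCoh.Lpull (pullback.fst f f)).mapIso eK.symm)
  obtain ⟨eD⟩ := nonempty_eval_diag f K L eL
  have hΨ := (TenLocal.triExact_LTensor L).comp (TenLocal.triExact_Rpush (pullback.snd f f))
  have hbox : iter0 (ObjectProperty.ofObj (fun _ : PUnit.{u + 1} => DCoh.inD X G))
      ((DCoh.LTensorCx L ⋙ DCoh.Rpush (pullback.snd f f)).obj (boxD f f E G)) := by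
    refine (iter0 _).prop_of_iso eB.symm ?_
    have hΛ := (TenLocal.triExact_Lpull f).comp
      (TenLocal.triExact_LTensor ((single X.Modules (ComplexShape.up ℤ) 0).obj G))
    haveI : LocallyOfFinitePresentation f := PhiPerf.lfp_of_noetherian f
    have hP : DCoh.IsPerfect ((DCoh.Rpush f).obj ((DCoh.LTensorCx ((single X.Modules (ComplexShape.up ℤ) 0).obj E)).obj
        (DerivedCategory.Q.obj K₀))) :=
      PPFlat.pp_flat f _ (PerfTensor.isPerfect_LTensor (isKFlatFor_single_finLocFree hE)
        (PCTriangle.perfect_iso ((DerivedCategory.singleFunctorIsoCompQ _ 0).app E)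
          (KZeroLib.isPerfect_inD_finLocFree hE)) _ (PCTriangle.perfect_iso eK.symm hK))
    refine map_iter0_tri hΛ _ _ ?_ (perfect_mem_iter0 (fun x =>
      VarietyLib.isRegularLocalRing_stalk_of_smooth k _ (𝟙 _) x) (exists_iso_free_field k) _ hP)
    rintro _ ⟨i⟩
    obtain ⟨e⟩ := nonempty_pull_structure f G hG
    exact (iter0 _).prop_of_iso e.symm (ObjectProperty.le_retractClosure _ _ (ObjectProperty.le_limitsClosure _ _ _
      (ObjectProperty.le_shiftClosure _ _ (ObjectProperty.ofObj_apply _ PUnit.unit))))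
  refine (ObjectProperty.triangEnvelopeIter _ n).prop_of_iso eD (map_iter_tri hΨ _ _ ?_ n hn)
  rintro _ ⟨i⟩
  exact hbox

end Groth.Agent.BoxRes17
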