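import Groth.Agent.Coherent.SubFTApps
import Groth.Agent.Coherent.InternalHomAdj
import Groth.Agent.FlatMor12.HomQCoh
import Groth.Agent.H8Lim.ModEq
import Groth.Agent.DCat.PerfTensor
import Groth.Agent.DCat.PullPerf
import Groth.Agent.FlatMorAdm.LocFreeApps
import Groth.Agent.Props12.FinLocFree
import Groth.Prelude.Def_PerfAux

/-!
# Hitting a section by a box product (resolution property)
-/

set_option autoImplicit false
set_option backward.isDefEq.respectTransparency false
set_option linter.style.haveILetI false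
set_option maxHeartbeats 1600000

universe u

open CategoryTheory CategoryTheory.Limits AlgebraicGeometry Opposite TopologicalSpace
open Groth.Agent.Coherent Groth.Agent.PicLib Groth.Agent.AmpleLib

noncomputable section

namespace Groth.Agent.BoxRes17

variable {X : Scheme.{u}}

/-- A section over an affine open of a quasi-coherent module is hit from a finite locally free module. -/
theorem exists_locFree_hit [CompactSpace X] [QuasiSeparatedSpace X] (hX : PerfAux.HasResolutionProperty X)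
    (M : X.Modules) [Coh.IsQCoh M] {U : X.Opens} (hU : IsAffineOpen U) (s : Γ(M, U)) :
    ∃ (E : X.Modules) (α : E ⟶ M) (e : Γ(E, U)), FlatMod.IsFinLocFree E ∧ α.app U e = s := by
  obtain ⟨Q, hQ, hs⟩ := exists_good_containing_qcqs (F := M) (U := U) hU.isCompact
    (I := PUnit.{u + 1}) (fun _ => s)
  haveI : Coh.IsQCoh Q.toMod := SubM.isQCoh hQ
  obtain ⟨E, π, hE, hπ⟩ := hX Q.toMod ‹_› (SubM.isFT hQ)
  haveI := DCat.PullPerf.isQCoh_of_finLocFree hE
  haveI := hπ
  obtain ⟨e, he⟩ := H8Lim.app_surjective_of_epi π hU ⟨s, hs PUnit.unit⟩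
  exact ⟨E, π ≫ Q.toι, e, hE, (congrArg (Q.toι.app U) he).trans rfl⟩

variable {P : Scheme.{u}}

/-- Sections over an open of `F` as sections of the push forward of the restriction. -/
theorem le_image_preimage {V W : P.Opens} (h : W ≤ V) : W ≤ V.ι ''ᵁ (V.ι ⁻¹ᵁ W) := fun x hx =>
  ⟨⟨x, h hx⟩, hx, rfl⟩

/-- Evaluation of a section of the push forward of the restriction inside `V`. -/
def evalIn (F : P.Modules) {V W : P.Opens} (h : W ≤ V)
    (x : Γ((Scheme.Modules.pushforward V.ι).obj (F.restrict V.ι), W)) : Γ(F, W) :=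
  resM F (le_image_preimage h) x

theorem evalIn_add (F : P.Modules) {V W : P.Opens} (h : W ≤ V)
    (x y : Γ((Scheme.Modules.pushforward V.ι).obj (F.restrict V.ι), W)) :
    evalIn F h (x + y) = evalIn F h x + evalIn F h y :=
  map_add (resM F (le_image_preimage h)) x y

theorem evalIn_smul (F : P.Modules) {V W : P.Opens} (h : W ≤ V) (r : Γ(P, W))
    (x : Γ((Scheme.Modules.pushforward V.ι).obj (F.restrict V.ι), W)) :
    evalIn F h (r • x) = r • evalIn F h x := by
  have h' : V.ι ''ᵁ (V.ι ⁻¹ᵁ W) ≤ W := by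
    rintro _ ⟨y, hy, rfl⟩
    exact hy
  refine Eq.trans ?_ ((resM_smul F (le_image_preimage h)
    (P.presheaf.map (homOfLE h').op r : Γ(P, V.ι ''ᵁ (V.ι ⁻¹ᵁ W)))
    (show Γ(F, V.ι ''ᵁ (V.ι ⁻¹ᵁ W)) from x)).trans ?_)
  · refine congrArg (resM F (le_image_preimage h)) ?_
    refine (Scheme.Modules.smul_restrictAppIso_hom_apply V.ι F (V.ι ⁻¹ᵁ W) (V.ι.app W r) x).trans ?_
    congr 1
    simp [Scheme.Opens.ι_appIso]
    rfl
  · refine congrArg (fun c : Γ(P, W) => c • evalIn F h x) ?_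
    rw [← ConcreteCategory.comp_apply, ← Functor.map_comp]
    exact DFunLike.congr_fun (congrArg CommRingCat.Hom.hom (P.presheaf.map_id (op W))) r

theorem resM_pushRestrict (F : P.Modules) {V W W' : P.Opens} (h' : W' ≤ W)
    (x : Γ((Scheme.Modules.pushforward V.ι).obj (F.restrict V.ι), W)) :
    (show Γ(F, V.ι ''ᵁ (V.ι ⁻¹ᵁ W')) from resM ((Scheme.Modules.pushforward V.ι).obj (F.restrict V.ι)) h' x) =
      resM F (V.ι.image_mono (fun _ hx => h' hx))
        (show Γ(F, V.ι ''ᵁ (V.ι ⁻¹ᵁ W)) from x) := rfl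

theorem resM_evalIn (F : P.Modules) {V W W' : P.Opens} (h : W ≤ V) (h' : W' ≤ W)
    (x : Γ((Scheme.Modules.pushforward V.ι).obj (F.restrict V.ι), W)) :
    resM F h' (evalIn F h x) =
      evalIn F (h'.trans h) (resM ((Scheme.Modules.pushforward V.ι).obj (F.restrict V.ι)) h' x) := by
  unfold evalIn
  rw [resM_resM]
  refine Eq.trans ?_ (congrArg (resM F _) (resM_pushRestrict F h' x)).symm
  rw [resM_resM]

/-- The family of linear maps on the opens of `V` given by a morphism into the push forward of the restriction. -/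
def locHomOfPushRestrict {A F : P.Modules} {V : P.Opens}
    (β : A ⟶ (Scheme.Modules.pushforward V.ι).obj (F.restrict V.ι)) : locHom A F V :=
  ⟨fun W' hW' => AddMonoidHom.mk'
      (fun a => evalIn F hW' (β.app W' a))
      (fun a b => (congrArg (evalIn F hW') (map_add (β.app W').hom a b)).trans (evalIn_add F hW' _ _)),
    fun W' hW' r a =>
      (congrArg (evalIn F hW') (Scheme.Modules.Hom.app_smul β r a)).trans (evalIn_smul F hW' r _),
    fun W' W'' hW' h a =>
      (resM_evalIn F hW' h _).trans (congrArg (evalIn F (h.trans hW')) (app_resM β h a).symm)⟩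

theorem ev_locHomOfPushRestrict {A F : P.Modules} {V : P.Opens}
    (β : A ⟶ (Scheme.Modules.pushforward V.ι).obj (F.restrict V.ι)) (W : P.Opens) (hW : W ≤ V)
    (a : Γ(A, W)) : ev (locHomOfPushRestrict β) W hW a = evalIn F hW (β.app W a) := rfl

theorem evalIn_resM (F : P.Modules) {V W U : P.Opens} (hW : W ≤ V) (hWU : W ≤ U)
    (hU : V.ι ''ᵁ (V.ι ⁻¹ᵁ U) ≤ W) (s : Γ(F, W)) :
    evalIn F hW (resM ((Scheme.Modules.pushforward V.ι).obj (F.restrict V.ι)) hWU
      (show Γ((Scheme.Modules.pushforward V.ι).obj (F.restrict V.ι), U) from resM F hU s)) = s :=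
  by
    unfold evalIn
    refine (congrArg (resM F _) (resM_pushRestrict F hWU _)).trans ?_
    rw [resM_resM, resM_resM]
    exact resM_self F _ s

theorem isQCoh_pushRestrict [QuasiSeparatedSpace P] (F : P.Modules) [Coh.IsQCoh F] {V : P.Opens}
    (hV : IsCompact (V : Set P)) :
    Coh.IsQCoh ((Scheme.Modules.pushforward V.ι).obj (F.restrict V.ι)) := by
  haveI : QuasiCompact V.ι := by
    refine ⟨fun S hSo hSc => ?_⟩
    rw [V.ι.isOpenEmbedding.isEmbedding.isCompact_iff, Set.image_preimage_eq_inter_range,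
      Scheme.Opens.range_ι]
    exact QuasiSeparatedSpace.inter_isCompact S _ hSo hSc V.2 hV
  exact isQCoh_push V.ι _

variable {Y : Scheme.{u}}

/-- The first half: a family of maps out of a pulled back finite locally free module hitting the section. -/
theorem exists_locHom_hit [CompactSpace X] [QuasiSeparatedSpace X] [QuasiSeparatedSpace P]
    (p : P ⟶ X) [QuasiCompact p] [QuasiSeparated p] (q : P ⟶ Y) [QuasiCompact q]
    (hX : PerfAux.HasResolutionProperty X) (F : P.Modules) [Coh.IsQCoh F]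
    {U : X.Opens} (hU : IsAffineOpen U) {V : Y.Opens} (hV : IsAffineOpen V)
    (s : Γ(F, p ⁻¹ᵁ U ⊓ q ⁻¹ᵁ V)) :
    ∃ (E : X.Modules) (e : Γ(E, U)) (φ : locHom ((Scheme.Modules.pullback p).obj E) F (q ⁻¹ᵁ V)),
      FlatMod.IsFinLocFree E ∧
      ev φ (p ⁻¹ᵁ U ⊓ q ⁻¹ᵁ V) inf_le_right (resM _ inf_le_left (pullSec p e)) = s := by
  haveI := isQCoh_pushRestrict F (V := q ⁻¹ᵁ V)
    (QuasiCompact.isCompact_preimage (f := q) (V : Set Y) V.2 hV.isCompact)
  haveI : Coh.IsQCoh ((Scheme.Modules.pushforward p).obj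
      ((Scheme.Modules.pushforward (q ⁻¹ᵁ V).ι).obj (F.restrict (q ⁻¹ᵁ V).ι))) := isQCoh_push p _
  have hW₀ : (q ⁻¹ᵁ V).ι ''ᵁ ((q ⁻¹ᵁ V).ι ⁻¹ᵁ (p ⁻¹ᵁ U)) ≤ p ⁻¹ᵁ U ⊓ q ⁻¹ᵁ V := by
    rintro _ ⟨y, hy, rfl⟩
    exact ⟨hy, y.2⟩
  obtain ⟨E, α, e, hE, he⟩ := exists_locFree_hit hX ((Scheme.Modules.pushforward p).obj
      ((Scheme.Modules.pushforward (q ⁻¹ᵁ V).ι).obj (F.restrict (q ⁻¹ᵁ V).ι))) hU
    (show Γ((Scheme.Modules.pushforward p).obj
      ((Scheme.Modules.pushforward (q ⁻¹ᵁ V).ι).obj (F.restrict (q ⁻¹ᵁ V).ι)), U) from resM F hW₀ s)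
  refine ⟨E, e, locHomOfPushRestrict
    (((Scheme.Modules.pullbackPushforwardAdjunction p).homEquiv _ _).symm α), hE, ?_⟩
  rw [ev_locHomOfPushRestrict, app_resM, PicLib.homEquiv_symm_app_pullSec, he]
  exact evalIn_resM F inf_le_right inf_le_left hW₀ s

theorem ev_resM_uncurry {A B F : P.Modules} (ψ : B ⟶ internalHom A F) {V W : P.Opens} (hW : W ≤ V)
    (b : Γ(B, V)) (φ : locHom A F V) (hψ : ψ.app V b = (show Γ(internalHom A F, V) from φ)) (a : Γ(A, W)) :
    ((tensorHomEquiv A B F).symm ψ).app W (tmul a (resM B hW b)) = ev φ W hW a := by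
  refine (Bilin.desc_tmul (uncurry ψ) W _ _).trans ?_
  show ev (secHom (ψ.app W (resM B hW b))) W le_rfl a = _
  rw [app_resM, hψ]
  rfl

/-- A section over a product open is hit by a box product of finite locally free modules. -/
theorem exists_box_hit [CompactSpace X] [QuasiSeparatedSpace X] [CompactSpace Y] [QuasiSeparatedSpace Y]
    [QuasiSeparatedSpace P]
    (p : P ⟶ X) [QuasiCompact p] [QuasiSeparated p] (q : P ⟶ Y) [QuasiCompact q] [QuasiSeparated q]
    (hX : PerfAux.HasResolutionProperty X) (hY : PerfAux.HasResolutionProperty Y)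
    (F : P.Modules) [Coh.IsQCoh F] {U : X.Opens} (hU : IsAffineOpen U) {V : Y.Opens} (hV : IsAffineOpen V)
    (s : Γ(F, p ⁻¹ᵁ U ⊓ q ⁻¹ᵁ V)) :
    ∃ (E : X.Modules) (G : Y.Modules) (f : CohB1.tensorMod ((Scheme.Modules.pullback p).obj E)
        ((Scheme.Modules.pullback q).obj G) ⟶ F)
      (t : Γ(CohB1.tensorMod ((Scheme.Modules.pullback p).obj E) ((Scheme.Modules.pullback q).obj G),
        p ⁻¹ᵁ U ⊓ q ⁻¹ᵁ V)),
      FlatMod.IsFinLocFree E ∧ FlatMod.IsFinLocFree G ∧ f.app _ t = s := by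
  obtain ⟨E, e, φ, hE, he⟩ := exists_locHom_hit p q hX F hU hV s
  have hA := FlatMorAdm.isFinLocFree_pullback p hE
  haveI := DCat.PullPerf.isQCoh_of_finLocFree hA
  haveI : Coh.IsQCoh (internalHom ((Scheme.Modules.pullback p).obj E) F) :=
    FlatMor12.isQCoh_internalHom_of_isFP (Props12.isFP_of_isFinLocFree _ hA)
  haveI : Coh.IsQCoh ((Scheme.Modules.pushforward q).obj
      (internalHom ((Scheme.Modules.pullback p).obj E) F)) := isQCoh_push q _
  obtain ⟨G, γ, g, hG, hg⟩ := exists_locFree_hit hY ((Scheme.Modules.pushforward q).obj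
      (internalHom ((Scheme.Modules.pullback p).obj E) F)) hV
    (show Γ((Scheme.Modules.pushforward q).obj
      (internalHom ((Scheme.Modules.pullback p).obj E) F), V) from φ)
  refine ⟨E, G, (tensorHomEquiv _ _ F).symm
      (((Scheme.Modules.pullbackPushforwardAdjunction q).homEquiv _ _).symm γ),
    tmul (resM _ inf_le_left (pullSec p e)) (resM _ inf_le_right (pullSec q g)), hE, hG, ?_⟩
  exact (ev_resM_uncurry _ inf_le_right _ φ
    ((PicLib.homEquiv_symm_app_pullSec q γ g).trans hg) _).trans he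

end Groth.Agent.BoxRes17
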