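import Mathlib.CategoryTheory.Triangulated.Generators
import Mathlib.CategoryTheory.Triangulated.Functor
import Mathlib.CategoryTheory.Limits.Preserves.Shapes.Biproducts

/-!
# Triangulated functors and iterated triangulated envelopes
-/

set_option autoImplicit false
set_option backward.isDefEq.respectTransparency false
set_option backward.defeqAttrib.useBackward true

open CategoryTheory CategoryTheory.Limits CategoryTheory.Pretriangulated

namespace Groth.Agent.BoxRes17

variable {C : Type*} [Category* C] [HasZeroObject C] [HasShift C ℤ] [Preadditive C]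
  [∀ (n : ℤ), (shiftFunctor C n).Additive] [Pretriangulated C]

/-- The zeroth step of the envelope. -/
abbrev iter0 (P : ObjectProperty C) : ObjectProperty C :=
  (P.shiftClosure ℤ).binaryProductsClosure.retractClosure

theorem iter0_of_isZero (P : ObjectProperty C) {A : C} (h : P A) {Z : C} (hZ : IsZero Z) : iter0 P Z :=
  ⟨_, ObjectProperty.le_limitsClosure _ _ _ (ObjectProperty.le_shiftClosure _ _ h),
    ⟨{ i := 0, r := 0, retract := hZ.eq_of_src _ _ }⟩⟩

theorem iter0_biprod (P : ObjectProperty C) {A B : C} [HasBinaryBiproduct A B] (hA : iter0 P A) (hB : iter0 P B) :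
    iter0 P (A ⊞ B) := by
  obtain ⟨A', hA', ⟨rA⟩⟩ := hA
  obtain ⟨B', hB', ⟨rB⟩⟩ := hB
  refine ⟨_, (P.shiftClosure ℤ).binaryProductsClosure.prop_prod A' B' hA' hB', ⟨?_⟩⟩
  exact
    { i := prod.lift (biprod.fst ≫ rA.i) (biprod.snd ≫ rB.i)
      r := biprod.lift (prod.fst ≫ rA.r) (prod.snd ≫ rB.r)
      retract := by ext <;> simp }

instance (P : ObjectProperty C) : (iter0 P).IsClosedUnderBinaryProducts := by
  refine ⟨fun X ⟨pres, hF⟩ => ?_⟩
  refine (iter0 P).prop_of_iso ?_ (iter0_biprod P (hF ⟨.left⟩) (hF ⟨.right⟩))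
  exact (biprod.isoProd _ _) ≪≫ (HasLimit.isoOfNatIso (Discrete.natIso fun j => by
    rcases j with ⟨_ | _⟩ <;> exact Iso.refl _)) ≪≫ (IsLimit.conePointUniqueUpToIso (limit.isLimit pres.diag) pres.isLimit)

variable {D : Type*} [Category* D] [HasZeroObject D] [HasShift D ℤ] [Preadditive D]
  [∀ (n : ℤ), (shiftFunctor D n).Additive] [Pretriangulated D]
  (F : C ⥤ D) [F.CommShift ℤ] [F.IsTriangulated] (P : ObjectProperty C) (Q : ObjectProperty D)

theorem map_iter0 (hPQ : ∀ A, P A → iter0 Q (F.obj A)) {A : C} (hA : iter0 P A) : iter0 Q (F.obj A) := by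
  obtain ⟨A', hA', ⟨r⟩⟩ := hA
  refine ObjectProperty.prop_of_retract _ (r.map F) ?_
  clear r
  induction hA' with
  | of_isoClosure e _ ih => exact (iter0 Q).prop_of_iso (F.mapIso e) ih
  | of_mem X hX =>
    obtain ⟨Y, a, e, hY⟩ := hX
    exact (iter0 Q).prop_of_iso ((F.commShiftIso a).app Y).symm ((iter0 Q).le_shift a _ (hPQ _ hY))
      |> (iter0 Q).prop_of_iso (F.mapIso e).symm
  | of_limitPresentation pres h ih =>
    haveI : PreservesBinaryBiproducts F := preservesBinaryBiproducts_of_preservesBiproducts F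
    exact (iter0 Q).prop_of_isLimit (isLimitOfPreserves F pres.isLimit) ih

/-- A triangulated functor respects the number of extensions. -/
theorem map_iter (hPQ : ∀ A, P A → iter0 Q (F.obj A)) :
    ∀ (n : ℕ) {A : C}, P.triangEnvelopeIter n A → Q.triangEnvelopeIter n (F.obj A)
  | 0, A, hA => by
    rw [ObjectProperty.triangEnvelopeIter_zero] at hA ⊢
    exact map_iter0 F P Q hPQ hA
  | n + 1, A, hA => by
    rw [ObjectProperty.triangEnvelopeIter_succ] at hA ⊢
    obtain ⟨A', ⟨Y, Z, f, g, h, hT, hY, hZ⟩, ⟨r⟩⟩ := hA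
    exact ⟨F.obj A', ⟨F.obj Y, F.obj Z, _, _, _, F.map_distinguished _ hT, map_iter0 F P Q hPQ hY, map_iter hPQ n hZ⟩,
      ⟨r.map F⟩⟩

end Groth.Agent.BoxRes17
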