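import Groth.Agent.BoxRes17.IterMap
import Groth.Agent.DCat.PhiDiag
import Groth.Agent.DCat.PhiBaseChange
import Groth.Agent.DCat.ProjNatural
import Groth.Agent.DCat.TensorAssoc
import Groth.Agent.DCat.KFlatSheaf
import Groth.Agent.KZeroLib.RegularPerfect
import Groth.Agent.FlatMorAdm.LocFreeApps

/-!
# Evaluating kernel functors on box products
-/

set_option autoImplicit false
set_option backward.isDefEq.respectTransparency false
set_option backward.defeqAttrib.useBackward true
set_option linter.style.haveILetI false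
set_option maxHeartbeats 800000

universe u

open CategoryTheory CategoryTheory.Limits CategoryTheory.Pretriangulated DerivedCategory AlgebraicGeometry HomologicalComplex
open Groth.Agent.DCat

noncomputable section

namespace Groth.Agent.BoxRes17

attribute [local instance] HasDerivedCategory.standard

variable {X : Scheme.{u}}

/-- A single complex of a finite locally free module is K-flat. -/
theorem isKFlatFor_single_finLocFree {M : X.Modules} (hM : FlatMod.IsFinLocFree M) :
    IsKFlatFor (shT X) ((single X.Modules (ComplexShape.up ℤ) 0).obj M) :=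
  isKFlatFor_sheaf_of_flat _ 0 (fun n hn => isZero_single_obj_X _ _ _ _ (by omega)) fun n => by
    by_cases h : n = 0
    · subst h
      exact PullPerf.isFlat_of_finLocFree (PerfTensor.isFinLocFree_of_iso
        (singleObjXSelf (ComplexShape.up ℤ) 0 M).symm hM)
    · exact PullPerf.isFlat_of_finLocFree (PerfTensor.isFinLocFree_of_isZero (isZero_single_obj_X _ _ _ _ h))

/-- Symmetry of the derived tensor product on values. -/
theorem nonempty_swap (A B : CochainComplex X.Modules ℤ) [DCoh.HasLTensorCx A] [DCoh.HasLTensorCx B]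
    (hB : IsKFlatFor (shT X) B) :
    Nonempty ((DCoh.LTensorCx A).obj (DerivedCategory.Q.obj B) ≅
      (DCoh.LTensorCx B).obj (DerivedCategory.Q.obj A)) := by
  haveI := LTensorSheaf.isIso_counit A hB
  haveI := LTensorSheaf.isIso_counit_of_right hB A
  exact ⟨asIso ((LTensorSheaf.counit A).app B) ≪≫ DerivedCategory.Q.mapIso (Dual22Lib.ShSymm.symm B A) ≪≫
    (asIso ((LTensorSheaf.counit B).app A)).symm⟩

/-- Symmetry, with a K-flat replacement. -/
theorem nonempty_swap' (A B : CochainComplex X.Modules ℤ) [DCoh.HasLTensorCx A] [DCoh.HasLTensorCx B] :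
    Nonempty ((DCoh.LTensorCx A).obj (DerivedCategory.Q.obj B) ≅
      (DCoh.LTensorCx B).obj (DerivedCategory.Q.obj A)) := by
  obtain ⟨B', hB', ⟨eB⟩⟩ := PullPerf.exists_kflat_rep (DerivedCategory.Q.obj B)
  haveI := LTensorSheaf.hasLTensorCx B'
  obtain ⟨e⟩ := nonempty_swap A B' hB'
  obtain ⟨c⟩ := TensorCongr.nonempty_congr (E := B') (E' := B) eB
  exact ⟨(DCoh.LTensorCx A).mapIso eB.symm ≪≫ e ≪≫ c.app _⟩

/-- The tensor product of two modules in degree zero. -/
theorem nonempty_tensor_single (M N : X.Modules) (hN : FlatMod.IsFinLocFree N)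
    [DCoh.HasLTensorCx ((single X.Modules (ComplexShape.up ℤ) 0).obj N)] :
    Nonempty ((DCoh.LTensorCx ((single X.Modules (ComplexShape.up ℤ) 0).obj N)).obj (DCoh.inD X M) ≅
      DCoh.inD X (CohB1.tensorMod M N)) := by
  haveI : ((shT X).flip.obj N).Additive := Dual22Lib.ShSymm.additive_flip_obj N
  haveI := LTensorSheaf.isIso_counit_of_right (isKFlatFor_single_finLocFree hN)
    ((single X.Modules (ComplexShape.up ℤ) 0).obj M)
  obtain ⟨eS⟩ := PhiDiag.flip_single_generic (shT X) N (DCoh.tensorCx (X := X)) rfl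
  exact ⟨(DCoh.LTensorCx _).mapIso ((DerivedCategory.singleFunctorIsoCompQ _ 0).app M) ≪≫
    asIso ((LTensorSheaf.counit ((single X.Modules (ComplexShape.up ℤ) 0).obj N)).app
      ((single X.Modules (ComplexShape.up ℤ) 0).obj M)) ≪≫
    DerivedCategory.Q.mapIso (eS.app _ ≪≫ (singleMapHomologicalComplex ((shT X).flip.obj N) (ComplexShape.up ℤ) 0).app M) ≪≫
    ((DerivedCategory.singleFunctorIsoCompQ _ 0).app _).symm⟩

/-- Tensoring a perfect object with a finite locally free module stays quasi-coherent. -/
theorem nonempty_Lpull_inD {Y : Scheme.{u}} (f : X ⟶ Y) [DCoh.HasLpull f] {M : Y.Modules}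
    (hM : FlatMod.IsFinLocFree M) :
    Nonempty ((DCoh.Lpull f).obj (DCoh.inD Y M) ≅ DCoh.inD X ((Scheme.Modules.pullback f).obj M)) :=
  ⟨(DCoh.Lpull f).mapIso ((DerivedCategory.singleFunctorIsoCompQ _ 0).app M) ≪≫
    PullPerf.lpullIso f (isKFlatFor_single_finLocFree hM) ≪≫
    DerivedCategory.Q.mapIso ((singleMapHomologicalComplex (Scheme.Modules.pullback f) (ComplexShape.up ℤ) 0).app M) ≪≫
    ((DerivedCategory.singleFunctorIsoCompQ _ 0).app _).symm⟩

end Groth.Agent.BoxRes17
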