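import Groth.Agent.BoxRes17.Hit
import Groth.Agent.Coherent.FiniteType

/-!
# Box products of finite locally free modules surject onto finite type modules
-/

set_option autoImplicit false
set_option backward.isDefEq.respectTransparency false
set_option linter.style.haveILetI false
set_option maxHeartbeats 800000

universe u

open CategoryTheory CategoryTheory.Limits AlgebraicGeometry Opposite TopologicalSpace
open Groth.Agent.Coherent Groth.Agent.PicLib Groth.Agent.AmpleLib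

noncomputable section

namespace Groth.Agent.BoxRes17

theorem tensorMap_comp_tensorMap {X : Scheme.{u}} {A A' A'' B B' B'' : X.Modules} (f : A ⟶ A') (f' : A' ⟶ A'')
    (g : B ⟶ B') (g' : B' ⟶ B'') :
    AmpleLib.tensorMap f g ≫ AmpleLib.tensorMap f' g' = AmpleLib.tensorMap (f ≫ f') (g ≫ g') :=
  AmpleLib.hom_ext fun U a b => by
    refine ((congrArg ((AmpleLib.tensorMap f' g').app U) (AmpleLib.tensorMap_tmul f g a b)).trans
      (AmpleLib.tensorMap_tmul f' g' _ _)).trans ?_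
    exact (AmpleLib.tensorMap_tmul (f ≫ f') (g ≫ g') a b).symm

theorem tensorMap_id_id {X : Scheme.{u}} (A B : X.Modules) :
    AmpleLib.tensorMap (𝟙 A) (𝟙 B) = 𝟙 _ :=
  AmpleLib.hom_ext fun U a b => AmpleLib.tensorMap_tmul (𝟙 A) (𝟙 B) a b

theorem tensorMap_zero_left {X : Scheme.{u}} {A A' B B' : X.Modules} (g : B ⟶ B') :
    AmpleLib.tensorMap (0 : A ⟶ A') g = 0 :=
  AmpleLib.hom_ext fun U a b => by
    refine (AmpleLib.tensorMap_tmul (0 : A ⟶ A') g a b).trans ?_
    exact tmul_zero_left _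

theorem exists_app_eq_of_comp {X : Scheme.{u}} {A B F : X.Modules} {Φ : B ⟶ F} {f : A ⟶ F}
    (h : ∃ ι : A ⟶ B, ι ≫ Φ = f) (U : X.Opens) {s : Γ(F, U)} (t : Γ(A, U)) (ht : f.app U t = s) :
    ∃ b : Γ(B, U), Φ.app U b = s := by
  obtain ⟨ι, rfl⟩ := h
  exact ⟨ι.app U t, ht⟩

theorem epi_of_hits {X : Scheme.{u}} {B F : X.Modules} (Φ : B ⟶ F) {J : Type*} (W : J → X.Opens)
    (n : J → ℕ) (g : ∀ j, Fin (n j) → Γ(F, W j))
    (hgen : ∀ j, GenOn F (W j) (fun i : ULift.{u} (Fin (n j)) => g j i.down)) (hcov : ∀ x, ∃ j, x ∈ W j)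
    (hit : ∀ j i, ∃ b, Φ.app (W j) b = g j i) : Epi Φ := by
  choose b hb using hit
  refine Coherent.epi_of_locally_surjective _ fun V a y hy => ?_
  obtain ⟨j, hyj⟩ := hcov y
  obtain ⟨W', hW', hyW', c, hc⟩ := hgen j (V ⊓ W j) inf_le_right (resM F inf_le_left a) y ⟨hy, hyj⟩
  have hle : W' ≤ W j := hW'.trans inf_le_right
  refine ⟨W', hW'.trans inf_le_left, hyW', ∑ i, c i • resM _ hle (b j i.down), ?_⟩
  rw [← resM_resM F (inf_le_left : V ⊓ W j ≤ V) hW' a, hc, map_sum]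
  refine Finset.sum_congr rfl fun i _ => ?_
  rw [Scheme.Modules.Hom.app_smul, app_resM, hb]

variable {X Y P : Scheme.{u}}

theorem exists_sum_box (p : P ⟶ X) (q : P ⟶ Y) {F : P.Modules} {m : ℕ} (E : Fin m → X.Modules)
    (G : Fin m → Y.Modules) (hE : ∀ i, FlatMod.IsFinLocFree (E i)) (hG : ∀ i, FlatMod.IsFinLocFree (G i))
    (f : ∀ i, CohB1.tensorMod ((Scheme.Modules.pullback p).obj (E i))
      ((Scheme.Modules.pullback q).obj (G i)) ⟶ F) :
    ∃ (E' : X.Modules) (G' : Y.Modules) (Φ : CohB1.tensorMod ((Scheme.Modules.pullback p).obj E')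
        ((Scheme.Modules.pullback q).obj G') ⟶ F),
      FlatMod.IsFinLocFree E' ∧ FlatMod.IsFinLocFree G' ∧
      ∀ i, ∃ ι : CohB1.tensorMod ((Scheme.Modules.pullback p).obj (E i)) ((Scheme.Modules.pullback q).obj (G i)) ⟶
        CohB1.tensorMod ((Scheme.Modules.pullback p).obj E') ((Scheme.Modules.pullback q).obj G'),
        ι ≫ Φ = f i := by
  classical
  haveI : HasFiniteBiproducts X.Modules := Abelian.hasFiniteBiproducts
  haveI : HasFiniteBiproducts Y.Modules := Abelian.hasFiniteBiproducts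
  refine ⟨⨁ E, ⨁ G, ∑ k, AmpleLib.tensorMap ((Scheme.Modules.pullback p).map (biproduct.π E k))
      ((Scheme.Modules.pullback q).map (biproduct.π G k)) ≫ f k,
    DCat.PerfTensor.isFinLocFree_of_iso (biproduct.isoCoproduct E).symm (DCat.PerfTensor.isFinLocFree_sigma E hE),
    DCat.PerfTensor.isFinLocFree_of_iso (biproduct.isoCoproduct G).symm (DCat.PerfTensor.isFinLocFree_sigma G hG),
    fun k => ⟨AmpleLib.tensorMap ((Scheme.Modules.pullback p).map (biproduct.ι E k))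
      ((Scheme.Modules.pullback q).map (biproduct.ι G k)), ?_⟩⟩
  rw [Preadditive.comp_sum, Finset.sum_eq_single k]
  · rw [← Category.assoc, tensorMap_comp_tensorMap, ← Functor.map_comp, ← Functor.map_comp,
      biproduct.ι_π_self, biproduct.ι_π_self, CategoryTheory.Functor.map_id, CategoryTheory.Functor.map_id,
      tensorMap_id_id, Category.id_comp]
  · intro b _ hb
    rw [← Category.assoc, tensorMap_comp_tensorMap, ← Functor.map_comp, biproduct.ι_π_ne E hb.symm,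
      Functor.map_zero, tensorMap_zero_left, zero_comp]
  · intro h
    exact absurd (Finset.mem_univ k) h

/-- Quasi-coherent modules of finite type are quotients of box products. -/
theorem exists_box_epi [CompactSpace X] [QuasiSeparatedSpace X] [CompactSpace Y] [QuasiSeparatedSpace Y]
    [QuasiSeparatedSpace P]
    (p : P ⟶ X) [QuasiCompact p] [QuasiSeparated p] (q : P ⟶ Y) [QuasiCompact q] [QuasiSeparated q]
    (haff : ∀ (U : X.Opens) (V : Y.Opens), IsAffineOpen U → IsAffineOpen V →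
      IsAffineOpen (p ⁻¹ᵁ U ⊓ q ⁻¹ᵁ V))
    (hX : PerfAux.HasResolutionProperty X) (hY : PerfAux.HasResolutionProperty Y)
    (F : P.Modules) [Coh.IsQCoh F] (hF : CohB1.IsFT F) :
    ∃ (E : X.Modules) (G : Y.Modules), FlatMod.IsFinLocFree E ∧ FlatMod.IsFinLocFree G ∧
      ∃ π : CohB1.tensorMod ((Scheme.Modules.pullback p).obj E) ((Scheme.Modules.pullback q).obj G) ⟶ F,
        Epi π := by
  classical
  obtain ⟨tX, htX, hcX⟩ := isCompact_iff_finite_and_eq_biUnion_affineOpens.1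
    (show IsCompact ((⊤ : X.Opens) : Set X) from isCompact_univ)
  obtain ⟨tY, htY, hcY⟩ := isCompact_iff_finite_and_eq_biUnion_affineOpens.1
    (show IsCompact ((⊤ : Y.Opens) : Set Y) from isCompact_univ)
  haveI := htX.fintype
  haveI := htY.fintype
  let W : tX × tY → P.Opens := fun a => p ⁻¹ᵁ a.1.1.1 ⊓ q ⁻¹ᵁ a.2.1.1
  have hW : ∀ a, IsAffineOpen (W a) := fun a => haff _ _ a.1.1.2 a.2.1.2
  choose n g hg using fun a =>
    haveI := H8Lim.finite_sections_of_isFT hF (hW a)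
    Module.Finite.exists_fin (R := Γ(P, W a)) (M := Γ(F, W a))
  have hgen : ∀ a, GenOn F (W a) (fun i : ULift.{u} (Fin (n a)) => g a i.down) := fun a =>
    genOn_of_span_top F (hW a) _ (by
      rw [← hg a]
      exact congrArg _ (Equiv.ulift.surjective.range_comp (g a)))
  let e := Fintype.equivFin (Σ a : tX × tY, ULift.{u} (Fin (n a)))
  choose E₀ G₀ f₀ t₀ hE₀ hG₀ hf₀ using fun k : Σ a : tX × tY, ULift.{u} (Fin (n a)) =>
    exists_box_hit p q hX hY F k.1.1.1.2 k.1.2.1.2 (g k.1 k.2.down)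
  obtain ⟨E', G', Φ, hE', hG', hι⟩ := exists_sum_box p q (fun i => E₀ (e.symm i)) (fun i => G₀ (e.symm i))
    (fun i => hE₀ _) (fun i => hG₀ _) (fun i => f₀ (e.symm i))
  refine ⟨E', G', hE', hG', Φ, epi_of_hits Φ (fun a : tX × tY => p ⁻¹ᵁ a.1.1.1 ⊓ q ⁻¹ᵁ a.2.1.1) n g hgen
    (fun y => ?_) (fun a i => ?_)⟩
  · have hX' : p y ∈ ((⊤ : X.Opens) : Set X) := trivial
    have hY' : q y ∈ ((⊤ : Y.Opens) : Set Y) := trivial
    rw [hcX] at hX'
    rw [hcY] at hY'
    simp only [Opens.mem_iSup, SetLike.mem_coe] at hX' hY'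
    obtain ⟨U₁, hU₁, hyU⟩ := hX'
    obtain ⟨V₁, hV₁, hyV⟩ := hY'
    exact ⟨(⟨U₁, hU₁⟩, ⟨V₁, hV₁⟩), hyU, hyV⟩
  · obtain ⟨m, hm⟩ : ∃ m, e.symm m = ⟨a, ⟨i⟩⟩ := e.symm.surjective _
    have h1 := exists_app_eq_of_comp (hι m) _ (t₀ (e.symm m)) (hf₀ (e.symm m))
    rw [hm] at h1
    exact h1

end Groth.Agent.BoxRes17
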